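import Cfsg.Agent.Lib.Fus.U62Rec.Defs
import Cfsg.Agent.Lib.Spor.FischerThm.UnitModel
import Cfsg.Agent.Lib.Block.FischerTypes.U6Count
import Cfsg.Agent.S0280
import Cfsg.Agent.S0283

/-! The forty-five transvections of `U₄(2)` as a generalised quadrangle of order `(4, 2)`. -/

set_option autoImplicit false
set_option maxRecDepth 100000
set_option linter.style.haveILetI false

namespace Cfsg.Agent.Fus.U62Rec

open Cfsg Cfsg.Agent.Spor.USixTwo Cfsg.Agent.Spor.FischerThm
open Cfsg.Agent.Block.FischerTypes.U6Code (adj refl)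

/-- The forty-five numbers. -/
def qpts : List ℕ :=
  [3, 5, 6, 9, 10, 12, 15, 129, 131, 141, 143, 257, 258, 261, 262, 267, 271, 393, 395, 397, 399, 513, 514, 516, 519,
    521, 522, 524, 527, 645, 647, 653, 655, 771, 775, 779, 783, 897, 899, 901, 903, 905, 907, 909, 911]

/-- The other points on the lines through a point. -/
def qnb (q : ℕ) : List ℕ := qpts.filter fun r => !(Nat.beq r q) && adj r q

/-- The points collinear to two points. -/
def qcom (q r : ℕ) : List ℕ := qpts.filter fun s => adj s q && adj s r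

/-- The pairs: meeting, separation, avoiding, sizes of common sets. -/
def chkPairs : Bool :=
  qpts.all fun q => qpts.all fun r =>
    (qpts.any fun s => adj s q && adj s r) && (qpts.any fun s => !(adj s q) && !(adj s r)) &&
    (Nat.beq q r || qpts.any fun s => adj s q && !(adj s r)) &&
    (Nat.beq q r || !(adj q r) || Nat.beq (qcom q r).length 5) &&
    (adj q r || (Nat.beq (qcom q r).length 3 &&
      (qcom q r).all fun s => (qcom q r).all fun t => Nat.beq s t || !(adj s t)))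

/-- Twelve neighbours, in three cliques. -/
def chkNb : Bool :=
  qpts.all fun q =>
    let N := qnb q
    Nat.beq N.length 12 && N.all fun v => N.all fun u => adj v u ||
      N.all fun u2 => !(adj u u2) || adj v u2 || adj (refl u v) (refl u2 v)

/-- Two points apart span three. -/
def chkSpan : Bool :=
  qpts.all fun q => qpts.all fun r => adj q r ||
    (let C := qcom q r
     qpts.all fun r' => adj q r' || !(C.all fun s => adj s r') || Nat.beq r' r || Nat.beq r' (refl q r))

theorem all_pts : ((List.range 4096).all fun c => Bool.and (!ptN 4 c || qpts.contains c) (!qpts.contains c || ptN 4 c)) = true := by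
  decide +kernel

theorem pairs_ok : chkPairs = true := by decide +kernel

theorem nb_ok : chkNb = true := by decide +kernel

theorem span_ok : chkSpan = true := by decide +kernel

theorem qpts_nodup : qpts.Nodup := by decide +kernel

theorem qpts_length : qpts.length = 45 := rfl

theorem mem_qpts {c : ℕ} : c ∈ qpts ↔ ptN 4 c = true := by
  have h := all_pts
  simp only [List.all_eq_true, List.mem_range, Bool.and_eq_true, Bool.or_eq_true, Bool.not_eq_true',
    List.contains_eq_mem, decide_eq_true_eq, decide_eq_false_iff_not] at h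
  constructor
  · intro hc
    have hlt : c < 4096 := by
      have : ∀ x ∈ qpts, x < 4096 := by decide +kernel
      exact this c hc
    exact (h c hlt).2.resolve_left fun k => k hc
  · intro hc
    exact (h c (Block.FischerTypes.U6Code.lt_of_isPt (ptN_iff.1 hc).1)).1.resolve_left (by simp [hc])

/-- The numbering. -/
noncomputable def num : UNum E4 4 :=
  (exists_num k4_card (by norm_num) (by norm_num) (MulEquiv.refl Q4) (Set.image_id _)).some

/-- The member with a number. -/
noncomputable def pq (c : ℕ) : Q4 := num.pt c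

theorem pq_mem {c : ℕ} (hc : c ∈ qpts) : pq c ∈ E4 := num.mem c (mem_qpts.1 hc)

theorem pq_surj {e : Q4} (he : e ∈ E4) : ∃ c ∈ qpts, pq c = e :=
  let ⟨c, hc, e⟩ := num.surj e he
  ⟨c, mem_qpts.2 hc, e⟩

theorem pq_inj {c d : ℕ} (hc : c ∈ qpts) (hd : d ∈ qpts) (e : pq c = pq d) : c = d :=
  num.inj c d (mem_qpts.1 hc) (mem_qpts.1 hd) e

theorem pq_comm {c d : ℕ} (hc : c ∈ qpts) (hd : d ∈ qpts) : Commute (pq c) (pq d) ↔ adj c d = true :=
  num.comm c d (mem_qpts.1 hc) (mem_qpts.1 hd)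

theorem pq_conj {p c : ℕ} (hp : p ∈ qpts) (hc : c ∈ qpts) :
    refl p c ∈ qpts ∧ pq p * pq c * pq p = pq (refl p c) :=
  let ⟨h1, h2⟩ := num.conj p c (mem_qpts.1 hp) (mem_qpts.1 hc)
  ⟨mem_qpts.2 h1, h2⟩

theorem ncard_where {P : Q4 → Prop} (f : ℕ → Bool) (h : ∀ c ∈ qpts, P (pq c) ↔ f c = true) :
    {s | s ∈ E4 ∧ P s}.ncard = (qpts.filter f).length := by
  classical
  have e : {s | s ∈ E4 ∧ P s} = pq '' ((qpts.filter f).toFinset : Set ℕ) := by
    ext s
    simp only [Set.mem_setOf_eq, Set.mem_image, List.coe_toFinset, List.mem_filter]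
    constructor
    · rintro ⟨hs, hP⟩
      obtain ⟨c, hc, rfl⟩ := pq_surj hs
      exact ⟨c, ⟨hc, (h c hc).1 hP⟩, rfl⟩
    · rintro ⟨c, ⟨hc, hf⟩, rfl⟩
      exact ⟨pq_mem hc, (h c hc).2 hf⟩
  rw [e, Set.InjOn.ncard_image, Set.ncard_coe_finset, List.toFinset_card_of_nodup (qpts_nodup.filter _)]
  intro a ha b hb k
  simp only [List.coe_toFinset, Set.mem_setOf_eq, List.mem_filter] at ha hb
  exact pq_inj ha.1 hb.1 k

theorem q_class : IsThreeTranspositionClass E4 :=
  Block.FischerTypes.U6.roots_class' k4_card (le_refl 4)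

theorem card_Q4 : Nat.card Q4 = 25920 := by
  show Nat.card (PSU 4 K4 2) = 25920
  have hc := Cfsg.Agent.S0280.result (show Fintype.card K4 = 2 ^ 2 from rfl) 4 (by norm_num)
  norm_num [Finset.prod_range_succ, Nat.even_iff] at hc
  omega

theorem q_simple : IsSimpleGroup Q4 :=
  Cfsg.Agent.S0283.result (show Fintype.card K4 = 2 ^ 2 from rfl) 4 (by norm_num) (by omega)

theorem sq {a : Q4} (ha : a ∈ E4) : a * a = 1 := by
  have h := pow_orderOf_eq_one a
  rwa [q_class.1.1 a ha, pow_two] at h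

theorem ne_one {a : Q4} (ha : a ∈ E4) : a ≠ 1 := fun e => by
  have := q_class.1.1 a ha
  rw [e, orderOf_one] at this
  norm_num at this

theorem card_E4 : {s | s ∈ E4}.ncard = 45 := by
  have := ncard_where (P := fun _ => True) (fun _ => true) (fun _ _ => by simp)
  simpa [List.filter_true, qpts_length] using this

theorem meet {p b : Q4} (hp : p ∈ E4) (hb : b ∈ E4) : ∃ s ∈ E4, Commute s p ∧ Commute s b := by
  obtain ⟨p, hp', rfl⟩ := pq_surj hp
  obtain ⟨b, hb', rfl⟩ := pq_surj hb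
  have h := pairs_ok
  simp only [chkPairs, List.all_eq_true, Bool.and_eq_true, List.any_eq_true] at h
  obtain ⟨s, hs, k1, k2⟩ := (h p hp' b hb').1.1.1.1
  exact ⟨pq s, pq_mem hs, (pq_comm hs hp').2 k1, (pq_comm hs hb').2 k2⟩

theorem avoid {p b : Q4} (hp : p ∈ E4) (hb : b ∈ E4) : ∃ s ∈ E4, ¬ Commute s p ∧ ¬ Commute s b := by
  obtain ⟨p, hp', rfl⟩ := pq_surj hp
  obtain ⟨b, hb', rfl⟩ := pq_surj hb
  have h := pairs_ok
  simp only [chkPairs, List.all_eq_true, Bool.and_eq_true, List.any_eq_true, Bool.not_eq_true'] at h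
  obtain ⟨s, hs, k1, k2⟩ := (h p hp' b hb').1.1.1.2
  exact ⟨pq s, pq_mem hs, fun k => by simp [(pq_comm hs hp').1 k] at k1,
    fun k => by simp [(pq_comm hs hb').1 k] at k2⟩

theorem sep {q r : Q4} (hq : q ∈ E4) (hr : r ∈ E4) (hne : q ≠ r) :
    ∃ s ∈ E4, Commute s q ∧ ¬ Commute s r := by
  obtain ⟨q, hq', rfl⟩ := pq_surj hq
  obtain ⟨r, hr', rfl⟩ := pq_surj hr
  have h := pairs_ok
  simp only [chkPairs, List.all_eq_true, Bool.and_eq_true, List.any_eq_true, Bool.or_eq_true, Bool.not_eq_true'] at h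
  rcases (h q hq' r hr').1.1.2 with k | ⟨s, hs, k1, k2⟩
  · exact absurd (congrArg pq (Nat.eq_of_beq_eq_true k)) hne
  · exact ⟨pq s, pq_mem hs, (pq_comm hs hq').2 k1, fun k => by simp [(pq_comm hs hr').1 k] at k2⟩

theorem line_card {q r : Q4} (hq : q ∈ E4) (hr : r ∈ E4) (hne : q ≠ r) (hc : Commute q r) :
    {s | s ∈ E4 ∧ (Commute s q ∧ Commute s r)}.ncard = 5 := by
  obtain ⟨q, hq', rfl⟩ := pq_surj hq
  obtain ⟨r, hr', rfl⟩ := pq_surj hr
  rw [ncard_where (fun s => adj s q && adj s r) fun s hs => by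
    rw [pq_comm hs hq', pq_comm hs hr', Bool.and_eq_true]]
  have h := pairs_ok
  simp only [chkPairs, List.all_eq_true, Bool.and_eq_true, Bool.or_eq_true, Bool.not_eq_true'] at h
  rcases (h q hq' r hr').1.2 with (k | k) | k
  · exact absurd (congrArg pq (Nat.eq_of_beq_eq_true k)) hne
  · rw [(pq_comm hq' hr').1 hc] at k; simp at k
  · exact Nat.eq_of_beq_eq_true k

theorem common_card {q r : Q4} (hq : q ∈ E4) (hr : r ∈ E4) (hc : ¬ Commute q r) :
    {s | s ∈ E4 ∧ (Commute s q ∧ Commute s r)}.ncard = 3 := by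
  obtain ⟨q, hq', rfl⟩ := pq_surj hq
  obtain ⟨r, hr', rfl⟩ := pq_surj hr
  rw [ncard_where (fun s => adj s q && adj s r) fun s hs => by
    rw [pq_comm hs hq', pq_comm hs hr', Bool.and_eq_true]]
  have h := pairs_ok
  simp only [chkPairs, List.all_eq_true, Bool.and_eq_true, Bool.or_eq_true, Bool.not_eq_true'] at h
  rcases (h q hq' r hr').2 with k | k
  · exact absurd ((pq_comm hq' hr').2 k) hc
  · exact Nat.eq_of_beq_eq_true k.1

theorem common_apart {q r s t : Q4} (hq : q ∈ E4) (hr : r ∈ E4) (hs : s ∈ E4) (ht : t ∈ E4)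
    (hc : ¬ Commute q r) (hsq : Commute s q) (hsr : Commute s r) (htq : Commute t q) (htr : Commute t r)
    (hne : s ≠ t) : ¬ Commute s t := by
  obtain ⟨q, hq', rfl⟩ := pq_surj hq
  obtain ⟨r, hr', rfl⟩ := pq_surj hr
  obtain ⟨s, hs', rfl⟩ := pq_surj hs
  obtain ⟨t, ht', rfl⟩ := pq_surj ht
  have h := pairs_ok
  simp only [chkPairs, List.all_eq_true, Bool.and_eq_true, Bool.or_eq_true, Bool.not_eq_true'] at h
  rcases (h q hq' r hr').2 with k | ⟨-, k⟩
  · exact absurd ((pq_comm hq' hr').2 k) hc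
  · rcases k s (by simp [qcom, hs', (pq_comm hs' hq').1 hsq, (pq_comm hs' hr').1 hsr]) t
        (by simp [qcom, ht', (pq_comm ht' hq').1 htq, (pq_comm ht' hr').1 htr]) with e | e
    · exact absurd (congrArg pq (Nat.eq_of_beq_eq_true e)) hne
    · exact fun c => by simp [(pq_comm hs' ht').1 c] at e

theorem nb_card {q : Q4} (hq : q ∈ E4) : {s | s ∈ E4 ∧ (s ≠ q ∧ Commute s q)}.ncard = 12 := by
  obtain ⟨q, hq', rfl⟩ := pq_surj hq
  rw [ncard_where (fun s => !(Nat.beq s q) && adj s q) fun s hs => by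
    rw [pq_comm hs hq', Bool.and_eq_true, Bool.not_eq_true', ← Bool.not_eq_true]
    refine and_congr_left fun _ => not_congr ⟨fun e => ?_, fun e => congrArg pq (Nat.eq_of_beq_eq_true e)⟩
    rw [pq_inj hs hq' e]; exact Nat.beq_refl q]
  have h := nb_ok
  simp only [chkNb, List.all_eq_true, Bool.and_eq_true] at h
  exact Nat.eq_of_beq_eq_true (h q hq').1

theorem third {q u u2 v : Q4} (hq : q ∈ E4) (hu : u ∈ E4) (hu2 : u2 ∈ E4) (hv : v ∈ E4)
    (huq : Commute u q) (hu2q : Commute u2 q) (hvq : Commute v q) (nu : u ≠ q) (nu2 : u2 ≠ q) (nv : v ≠ q)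
    (huu : Commute u u2) (hvu : ¬ Commute v u) (hvu2 : ¬ Commute v u2) :
    Commute (u * v * u) (u2 * v * u2) := by
  obtain ⟨q, hq', rfl⟩ := pq_surj hq
  obtain ⟨u, hu', rfl⟩ := pq_surj hu
  obtain ⟨u2, hu2', rfl⟩ := pq_surj hu2
  obtain ⟨v, hv', rfl⟩ := pq_surj hv
  have memN : ∀ x ∈ qpts, Commute (pq x) (pq q) → pq x ≠ pq q → x ∈ qnb q := fun x hx k ne => by
    simp only [qnb, List.mem_filter, Bool.and_eq_true, Bool.not_eq_true']
    refine ⟨hx, ?_, (pq_comm hx hq').1 k⟩
    rw [← Bool.not_eq_true]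
    exact fun e => ne (congrArg pq (Nat.eq_of_beq_eq_true e))
  have h := nb_ok
  simp only [chkNb, List.all_eq_true, Bool.and_eq_true, Bool.or_eq_true, Bool.not_eq_true'] at h
  rcases (h q hq').2 v (memN v hv' hvq nv) u (memN u hu' huq nu) with k | k
  · exact absurd ((pq_comm hv' hu').2 k) hvu
  rcases k u2 (memN u2 hu2' hu2q nu2) with (k | k) | k
  · rw [(pq_comm hu' hu2').1 huu] at k; simp at k
  · exact absurd ((pq_comm hv' hu2').2 k) hvu2
  · rw [(pq_conj hu' hv').2, (pq_conj hu2' hv').2]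
    exact (pq_comm (pq_conj hu' hv').1 (pq_conj hu2' hv').1).2 k

theorem span {q r r' : Q4} (hq : q ∈ E4) (hr : r ∈ E4) (hr' : r' ∈ E4) (hc : ¬ Commute q r)
    (hc' : ¬ Commute q r') (h : ∀ s ∈ E4, Commute s q → Commute s r → Commute s r') :
    r' = r ∨ r' = q * r * q := by
  obtain ⟨q, hq', rfl⟩ := pq_surj hq
  obtain ⟨r, hr₁, rfl⟩ := pq_surj hr
  obtain ⟨r', hr₂, rfl⟩ := pq_surj hr'
  have k := span_ok
  simp only [chkSpan, List.all_eq_true, Bool.or_eq_true, Bool.not_eq_true'] at k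
  rcases k q hq' r hr₁ with k | k
  · exact absurd ((pq_comm hq' hr₁).2 k) hc
  rcases k r' hr₂ with ((k | k) | k) | k
  · exact absurd ((pq_comm hq' hr₂).2 k) hc'
  · exfalso
    rw [List.all_eq_false] at k
    obtain ⟨s, hs, ks⟩ := k
    simp only [qcom, List.mem_filter, Bool.and_eq_true] at hs
    exact ks ((pq_comm hs.1 hr₂).1 (h _ (pq_mem hs.1) ((pq_comm hs.1 hq').2 hs.2.1) ((pq_comm hs.1 hr₁).2 hs.2.2)))
  · exact Or.inl (congrArg pq (Nat.eq_of_beq_eq_true k))
  · exact Or.inr ((congrArg pq (Nat.eq_of_beq_eq_true k)).trans (pq_conj hq' hr₁).2.symm)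

theorem faithful {g : Q4} (h : ∀ e ∈ E4, Commute g e) : g = 1 := by
  have hg : g ∈ Subgroup.center Q4 := by
    refine Subgroup.mem_center_iff.2 fun x => ?_
    have hx : x ∈ Subgroup.centralizer ({g} : Set Q4) := by
      have : Subgroup.closure E4 ≤ Subgroup.centralizer ({g} : Set Q4) := (Subgroup.closure_le _).2 fun e he =>
        Subgroup.mem_centralizer_singleton_iff.2 (h e he).symm.eq
      exact this (q_class.2.2 ▸ Subgroup.mem_top x)
    exact Subgroup.mem_centralizer_singleton_iff.1 hx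
  haveI := q_simple
  rcases (inferInstance : (Subgroup.center Q4).Normal).eq_bot_or_eq_top with k | k
  · rwa [k, Subgroup.mem_bot] at hg
  · exfalso
    have hn := nb_card (pq_mem (show (3 : ℕ) ∈ qpts by simp [qpts]))
    have e : {s | s ∈ E4 ∧ (s ≠ pq 3 ∧ Commute s (pq 3))} = {s | s ∈ E4} \ {pq 3} := Set.ext fun s =>
      ⟨fun hs => ⟨hs.1, hs.2.1⟩, fun hs => ⟨hs.1, hs.2, (Subgroup.mem_center_iff.1 (k ▸ Subgroup.mem_top (pq 3)) s)⟩⟩
    rw [e, Set.ncard_sdiff (by simpa using pq_mem (show (3 : ℕ) ∈ qpts by simp [qpts])), card_E4,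
      Set.ncard_singleton] at hn
    norm_num at hn

end Cfsg.Agent.Fus.U62Rec
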