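import Cfsg.Agent.Lib.Fus.U62Rec.Whole
import Cfsg.Agent.Lib.Spor.SUFieldCongr
import Cfsg.Agent.Lib.Grp.PolarRec.Main
import Cfsg.Agent.S0245
import Cfsg.Agent.S0280

/-! A group with the centraliser of a long root element of `U₆(2)` is `U₆(2)`. -/

set_option autoImplicit false
set_option linter.style.haveILetI false
set_option linter.unusedSectionVars false
set_option linter.deprecated false

namespace Cfsg.Agent.Fus.U62Rec

open Cfsg Cfsg.Agent.Spor.ThreeTrans
open scoped commutatorElement

/-- Fields of four elements give the same group. -/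
theorem psu_congr {n : ℕ} {F F' : Type*} [Field F] [Fintype F] [Field F'] [Fintype F'] (φ : F ≃+* F') :
    Nonempty (PSU n F 2 ≃* PSU n F' 2) := by
  classical
  let e : SU n F 2 ≃* SU n F' 2 := Spor.SUCongr.equiv 2 φ
  refine ⟨QuotientGroup.congr _ _ e ?_⟩
  ext y
  constructor
  · rintro ⟨x, hx, rfl⟩
    refine Subgroup.mem_center_iff.2 fun w => ?_
    obtain ⟨w, rfl⟩ := e.surjective w
    show e w * e x = e x * e w
    rw [← map_mul, ← map_mul, Subgroup.mem_center_iff.1 hx w]
  · intro hy
    refine ⟨e.symm y, Subgroup.mem_center_iff.2 fun w => e.injective ?_, e.apply_symm_apply y⟩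
    rw [map_mul, map_mul, e.apply_symm_apply, Subgroup.mem_center_iff.1 hy (e w)]

theorem sp_absurd (n : ℕ) : Nat.card (Matrix.symplecticGroup (Fin n) (ZMod 2)) ≠ 9196830720 := by
  intro e
  rw [Cfsg.Agent.S0245.result (ZMod.card 2) n] at e
  rcases Nat.lt_or_ge n 4 with h | h
  · interval_cases n <;> norm_num [Finset.prod_range_succ] at e
  · have h16 : 2 ^ 16 ∣ 2 ^ (n ^ 2) := pow_dvd_pow 2 (by nlinarith)
    have := e ▸ h16.mul_right (∏ i ∈ Finset.range n, (2 ^ (2 * (i + 1)) - 1))
    norm_num at this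

theorem unit_degree {F : Type} [Field F] [Fintype F] (hF : Fintype.card F = 4) {n : ℕ}
    (e : Nat.card (PSU n F 2) = 9196830720) : n = 6 := by
  rcases Nat.lt_or_ge n 2 with h | h
  · exfalso
    haveI : Subsingleton (Matrix.SpecialLinearGroup (Fin n) F) := ⟨fun a b => Subtype.ext (Matrix.ext fun i j => by
      interval_cases n
      · exact i.elim0
      · have ha := a.2
        have hb := b.2
        rw [Matrix.det_fin_one] at ha hb
        rw [Subsingleton.elim i 0, Subsingleton.elim j 0, ha, hb])⟩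
    haveI : Subsingleton (SU n F 2) := ⟨fun a b => Subtype.ext (Subsingleton.elim _ _)⟩
    have h1 : Nat.card (PSU n F 2) ≤ Nat.card (SU n F 2) :=
      Nat.card_le_card_of_surjective _ QuotientGroup.mk_surjective
    rw [e, Nat.card_of_subsingleton (1 : SU n F 2)] at h1
    norm_num at h1
  have hc := Cfsg.Agent.S0280.result (show Fintype.card F = 2 ^ 2 by rw [hF]; norm_num) n h
  rw [e] at hc
  rcases Nat.lt_or_ge n 7 with h7 | h7
  · interval_cases n <;> first | rfl | (exfalso; norm_num [Finset.prod_range_succ, Nat.even_iff] at hc)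
  · exfalso
    have hg : Nat.gcd n (2 + 1) = 1 ∨ Nat.gcd n (2 + 1) = 3 := (Nat.dvd_prime Nat.prime_three).1 (Nat.gcd_dvd_right _ _)
    have h21 : 2 ^ 16 ∣ 2 ^ (n * (n - 1) / 2) := by
      refine pow_dvd_pow 2 ?_
      have : 7 * 6 ≤ n * (n - 1) := Nat.mul_le_mul h7 (by omega)
      omega
    have := hc.symm ▸ dvd_mul_of_dvd_left h21 _
    rcases hg with k | k <;> rw [k] at this <;> norm_num at this

variable {G : Type*} [Group G] [Finite G] {z : G}

/-- Recognition of `U₆(2)` from the centraliser of an involution. -/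
theorem nonempty_psu (S : Setting z) (K : Type*) [Field K] [Fintype K] (hK : Fintype.card K = 4) :
    Nonempty (G ≃* PSU 6 K 2) := by
  let σ : ↥(G0 z) ≃* G := (MulEquiv.subgroupCongr S.top).trans Subgroup.topEquiv
  have hcard : Nat.card G = 9196830720 := by rw [← Nat.card_congr σ.toEquiv, S.card_G0]
  haveI := S.simple0
  haveI : Nontrivial G := σ.symm.toEquiv.nontrivial
  haveI hs : IsSimpleGroup G := IsSimpleGroup.isSimpleGroup_of_surjective σ.toMonoidHom σ.surjective
  have hcls : IsThreeTranspositionClass (conjugatesOf z) := by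
    refine ⟨⟨fun x hx => S.two_mem hx, fun x hx y hy => ?_⟩, ⟨z, mem_conjugatesOf_self, rfl⟩, ?_⟩
    · exact S.order_joined hx (S.joined_comp (S.whole x hx) (S.whole y hy))
    · rw [eq_top_iff, ← S.top]
      exact Subgroup.closure_mono fun x hx => S.comp_sub hx
  obtain ⟨c, hc, hcz⟩ := S.exists_apart_comp
  have hcomm : commutator G = ⊤ := by
    rcases (inferInstance : (commutator G).Normal).eq_bot_or_eq_top with k | k
    · exfalso
      have : ⁅c, z⁆ ∈ commutator G := Subgroup.commutator_mem_commutator (Subgroup.mem_top _) (Subgroup.mem_top _)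
      rw [k, Subgroup.mem_bot, commutatorElement_eq_one_iff_commute] at this
      exact hcz this
    · exact k
  have hH : Hyp (conjugatesOf z) := by
    refine hyp_of_no_solvable (fun N hN hsol => (hN.eq_bot_or_eq_top).resolve_right fun ht => ?_) ?_ hcls
    · subst ht
      haveI : Group.IsSolvable G := Group.isSolvable_of_surjective (f := (Subgroup.topEquiv (G := G)).toMonoidHom)
        Subgroup.topEquiv.surjective
      exact hcz (IsSimpleGroup.comm_iff_isSolvable.mpr this c z)
    · rw [hcomm, ← commutator_def, hcomm]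
  have hZ : Subgroup.center G = ⊥ := by
    refine (inferInstance : (Subgroup.center G).Normal).eq_bot_or_eq_top.resolve_right fun k => hcz ?_
    exact Subgroup.mem_center_iff.1 (k ▸ Subgroup.mem_top z) c
  have hcore : ¬ pCore 2 ↥(Subgroup.closure (perp (conjugatesOf z) z)) ≤
      Subgroup.center ↥(Subgroup.closure (perp (conjugatesOf z) z)) := by
    rw [S.gen_base]
    intro hle
    have hJ : S.π.ker ≤ Subgroup.center ↥(CC z) := (le_sSup (show S.π.ker ∈
        {N : Subgroup ↥(CC z) | N.Normal ∧ IsPGroup 2 N} from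
      ⟨inferInstance, IsPGroup.of_card (n := 9) (by rw [S.card_ker]; norm_num)⟩) : S.π.ker ≤ pCore 2 ↥(CC z)).trans hle
    have hsub : ∀ g ∈ S.π.ker, (g : G) = 1 ∨ (g : G) = z := fun g hg =>
      S.ker_centre g hg fun h _ => (Subgroup.mem_center_iff.1 (hJ hg) h).symm
    have h2 : Nat.card S.π.ker ≤ Nat.card ({1, z} : Set G) :=
      Nat.card_le_card_of_injective (fun g => ⟨((g : ↥(CC z)) : G), by rcases hsub g.1 g.2 with k | k <;> simp [k]⟩)
        fun a b k => Subtype.ext (Subtype.ext (congrArg Subtype.val k :))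
    rw [S.card_ker, Nat.card_coe_set_eq] at h2
    have h3 := (Set.ncard_insert_le (1 : G) {z}).trans (by rw [Set.ncard_singleton])
    omega
  rcases Grp.PolarRec.models (Grp.PolarRec.ctx_of_core hH mem_conjugatesOf_self hcore) hZ with
    ⟨n, e, -, -⟩ | ⟨F, iF, iT, hF, n, e, -, -⟩
  · exact absurd ((Nat.card_congr e.toEquiv).symm.trans hcard) (sp_absurd n)
  · obtain rfl := unit_degree hF ((Nat.card_congr e.toEquiv).symm.trans hcard)
    obtain ⟨k⟩ := psu_congr (n := 6) (FiniteField.ringEquivOfCardEq (hF.trans hK.symm) : F ≃+* K)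
    exact ⟨e.trans k⟩

end Cfsg.Agent.Fus.U62Rec
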