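import Cfsg.Agent.Lib.Block.FischerTypes.U6Class
import Cfsg.Agent.Lib.Block.FischerTypes.Basic
import Cfsg.Agent.Lib.Spor.USixTwo.K4

/-!
Recognition of `U₆(2)` from the centraliser of an involution: the hypotheses.

A consumer supplies, for an involution `z` with `H = C(z)`, a map of `H` onto `U₄(2)` with kernel of
order `2⁹` and centre inside `⟨z⟩`, and the conjugates of `z` in `H`: apart from `z` there are four
over each of the 45 transvections, they lie only over transvections, and two of them commute as soon
as their images do. Nothing is asked about the action on the kernel or about generation.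
-/

set_option autoImplicit false

namespace Cfsg.Agent.Fus.U62Rec

open Cfsg Cfsg.Agent.Spor.USixTwo

/-- The model of `U₄(2)`. -/
abbrev Q4 : Type := PSU 4 K4 2

theorem k4_card : Fintype.card K4 = 4 := rfl

/-- Its transvections. -/
abbrev E4 : Set Q4 := Block.FischerTypes.U6.roots k4_card 4

/-- The centraliser of an element. -/
abbrev CC {G : Type*} [Group G] (z : G) : Subgroup G := Subgroup.centralizer ({z} : Set G)

/-- The centraliser of a long root element of `U₆(2)` with its conjugates. -/
structure Setting {G : Type*} [Group G] (z : G) where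
  /-- The map onto `U₄(2)`. -/
  π : ↥(CC z) →* Q4
  two : orderOf z = 2
  surj : Function.Surjective π
  card_ker : Nat.card π.ker = 512
  ker_centre : ∀ g ∈ π.ker, (∀ h ∈ π.ker, Commute g h) → (g : G) = 1 ∨ (g : G) = z
  mem : ∀ u : ↥(CC z), IsConj z (u : G) → (u : G) ≠ z → π u ∈ E4
  fibre : ∀ e ∈ E4, {u : ↥(CC z) | IsConj z (u : G) ∧ π u = e}.ncard = 4
  comm : ∀ u v : ↥(CC z), IsConj z (u : G) → IsConj z (v : G) → (u : G) ≠ z → (v : G) ≠ z →
    Commute (π u) (π v) → Commute u v

end Cfsg.Agent.Fus.U62Rec
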