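import Cfsg.Agent.Lib.Fus.U62Rec.Graph
import Cfsg.Agent.Lib.Block.FischerTypes.Unique
import Mathlib.GroupTheory.Index

/-! The component of `z` generates a group with the component as a class of 3-transpositions; products of
two of its commuting members determine them; it contains the centralisers of its members. -/

set_option autoImplicit false
set_option linter.style.haveILetI false
set_option linter.unusedSectionVars false
set_option linter.deprecated false

namespace Cfsg.Agent.Fus.U62Rec

open Cfsg Cfsg.Agent.Spor.ThreeTrans Cfsg.Agent.Block.FischerTypes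

variable {G : Type*} [Group G] [Finite G]

/-- The component of `z`. -/
def comp (z : G) : Set G := {x | Joined (conjugatesOf z) z x}

/-- The group it generates. -/
abbrev G0 (z : G) : Subgroup G := Subgroup.closure (comp z)

/-- The component inside that group. -/
def cls0 (z : G) : Set ↥(G0 z) := {x | (x : G) ∈ comp z}

variable {z : G}

local notation "D" => conjugatesOf z

theorem z_comp : z ∈ comp z := Relation.ReflTransGen.refl

theorem comp_le : comp z ⊆ G0 z := Subgroup.subset_closure

theorem comp_perp {x y : G} (hx : x ∈ comp z) (hy : y ∈ perp D x) : y ∈ comp z :=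
  Relation.ReflTransGen.tail hx hy

theorem perp_map (g : G) {x y : G} (hy : y ∈ perp D x) : g * y * g⁻¹ ∈ perp D (g * x * g⁻¹) :=
  ⟨conjugates_inv g hy.1, fun e => hy.2.1 (mul_left_cancel (mul_right_cancel e)), (commute_conj_iff g _ _).2 hy.2.2⟩

theorem joined_map (g : G) {x y : G} (h : Joined D x y) : Joined D (g * x * g⁻¹) (g * y * g⁻¹) := by
  induction h with
  | refl => exact .refl
  | tail _ hbc ih => exact ih.tail (perp_map g hbc)

namespace Setting

variable (S : Setting z)
include S

theorem comp_sub {x : G} (hx : x ∈ comp z) : x ∈ D := S.joined_mem mem_conjugatesOf_self hx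

theorem joined_comp {x y : G} (hx : x ∈ comp z) (hy : y ∈ comp z) : Joined D x y :=
  (S.joined_symm mem_conjugatesOf_self hx).trans hy

theorem comp_conj {g : G} (hg : g ∈ G0 z) {x : G} (hx : x ∈ comp z) : g * x * g⁻¹ ∈ comp z := by
  induction hg using Subgroup.closure_induction generalizing x with
  | mem u hu =>
    have e : u * u * u⁻¹ = u := by simp
    have := joined_map u (S.joined_comp hu hx)
    rw [e] at this
    exact Relation.ReflTransGen.trans hu this
  | one => simpa using hx
  | mul a b _ _ iha ihb =>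
    have := iha (ihb hx)
    simpa [mul_assoc] using this
  | inv a _ iha =>
    haveI : Finite ↥(comp z) := Subtype.finite
    obtain ⟨⟨y, hy⟩, hxy⟩ := Finite.surjective_of_injective
      (f := fun y : ↥(comp z) => (⟨a * (y : G) * a⁻¹, iha y.2⟩ : ↥(comp z)))
      (fun u v e => Subtype.ext (by simpa using congrArg Subtype.val e)) ⟨x, hx⟩
    have e := congrArg Subtype.val hxy
    simp only at e
    rw [← e]
    simpa [mul_assoc] using hy

theorem braid_or_commute {x y : G} (hx : x ∈ comp z) (hy : y ∈ comp z) :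
    Commute x y ∨ x * y * x = y * x * y := by
  by_cases hc : Commute x y
  · exact Or.inl hc
  rcases S.joined_near (S.comp_sub hx) (S.joined_comp hx hy) with rfl | k | ⟨c, hcx, hcy⟩
  · exact Or.inl (Commute.refl x)
  · exact Or.inl k
  · exact Or.inr (S.braid_of_common (S.comp_sub hx) (S.comp_sub hy) hcx hcy hc)

theorem braid_move {x c : G} (hx : x ∈ D) (hc : c ∈ D) (h : x * c * x = c * x * c) :
    (x * c) * x * (x * c)⁻¹ = c := by
  rw [mul_inv_rev, S.inv hx, S.inv hc,
    show x * c * x * (c * x) = x * (c * x * c) * x by simp only [mul_assoc], ← h,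
    ← mul_assoc, ← mul_assoc, S.sq hx, one_mul, mul_assoc, S.sq hx, mul_one]

/-- A member apart from two members over points of a third. -/
theorem exists_apart {w x y : G} (hw : w ∈ D) (hx : x ∈ perp D w) (hy : y ∈ perp D w) :
    ∃ c ∈ perp D w, ¬ Commute c x ∧ ¬ Commute c y := by
  obtain ⟨s, hs, k1, k2⟩ := avoid (S.im_mem hw hx) (S.im_mem hw hy)
  obtain ⟨c, hc, rfl⟩ := S.im_over hw hs
  exact ⟨c, hc, fun k => k1 ((S.im_comm hw hc hx).1 k), fun k => k2 ((S.im_comm hw hc hy).1 k)⟩

theorem adj_conj {x y : G} (hx : x ∈ comp z) (hy : y ∈ perp D x) : ∃ g ∈ G0 z, g * x * g⁻¹ = y := by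
  have hxD := S.comp_sub hx
  obtain ⟨w, hw, hwe, hne⟩ := S.im_mate hxD hy
  have hwy : y ∈ perp D w := ⟨hy.1, Ne.symm hne, S.comm_of_im hxD hw hy hwe⟩
  have hwx : x ∈ perp D w := perp_sym hxD hw
  obtain ⟨c, hc, h1, h2⟩ := S.exists_apart hw.1 hwx hwy
  have hcc : c ∈ comp z := comp_perp (comp_perp hx hw) hc
  have hyc := comp_perp hx hy
  have b1 := (S.braid_or_commute hx hcc).resolve_left fun k => h1 k.symm
  have b2 := (S.braid_or_commute hcc hyc).resolve_left h2
  refine ⟨(c * y) * (x * c), mul_mem (mul_mem (comp_le hcc) (comp_le hyc)) (mul_mem (comp_le hx) (comp_le hcc)), ?_⟩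
  rw [show c * y * (x * c) * x * (c * y * (x * c))⁻¹ = c * y * (x * c * x * (x * c)⁻¹) * (c * y)⁻¹ by
    simp [mul_assoc], S.braid_move hxD hc.1 b1, S.braid_move hc.1 hy.1 b2]

theorem comp_transitive {x : G} (hx : x ∈ comp z) : ∃ g ∈ G0 z, g * z * g⁻¹ = x := by
  induction (show Joined D z x from hx) with
  | refl => exact ⟨1, one_mem _, by simp⟩
  | tail h1 hbc ih =>
    obtain ⟨g, hg, e⟩ := ih h1
    obtain ⟨k, hk, e'⟩ := S.adj_conj h1 hbc
    exact ⟨k * g, mul_mem hk hg, by rw [← e', ← e]; simp [mul_assoc]⟩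

theorem cls0_class : IsThreeTranspositionClass (cls0 z) := by
  refine ⟨⟨fun x hx => ?_, fun x hx y hy => ?_⟩, ⟨⟨z, comp_le z_comp⟩, z_comp, ?_⟩, ?_⟩
  · rw [← Subgroup.orderOf_coe]; exact S.two_mem (S.comp_sub hx)
  · rcases S.order_joined (S.comp_sub hx) (S.joined_comp hx hy) with k | k
    · exact Or.inl (Subtype.ext (by simpa using k))
    · exact Or.inr (Subtype.ext (by simpa using k))
  · ext x
    constructor
    · intro hx
      obtain ⟨g, hg, e⟩ := S.comp_transitive hx
      exact _root_.isConj_iff.2 ⟨⟨g, hg⟩, Subtype.ext e⟩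
    · intro hx
      obtain ⟨g, rfl⟩ := _root_.isConj_iff.1 (show IsConj (⟨z, comp_le z_comp⟩ : ↥(G0 z)) x from hx)
      exact S.comp_conj g.2 z_comp
  · rw [eq_top_iff]
    rintro ⟨x, hx⟩ -
    induction hx using Subgroup.closure_induction with
    | mem u hu => exact Subgroup.subset_closure hu
    | one => exact one_mem _
    | mul a b _ _ iha ihb => exact mul_mem iha ihb
    | inv a _ iha => exact inv_mem iha

theorem twinFree0 : TwinFree (cls0 z) := by
  rintro a b ⟨ha, hb, h⟩
  by_contra hne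
  have haD := S.comp_sub ha
  have hbD := S.comp_sub hb
  have hab : Commute (a : G) (b : G) := congrArg Subtype.val ((h a ha).1 (Commute.refl a)).symm.eq
  have hbp : (b : G) ∈ perp D (a : G) := ⟨hbD, fun e => hne (Subtype.ext e).symm, hab⟩
  obtain ⟨c, hc, hcb, -⟩ := S.exists_apart haD hbp hbp
  have hcc := comp_perp ha hc
  exact hcb ((congrArg Subtype.val ((h ⟨c, comp_le hcc⟩ hcc).1 (Subtype.ext hc.2.2.eq)).eq :
    (b : G) * c = c * b)).symm

/-- Products of two commuting members determine them. -/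
theorem pair_unique {x y x' y' : G} (hx : x ∈ comp z) (hy : y ∈ comp z) (hx' : x' ∈ comp z) (hy' : y' ∈ comp z)
    (hne : x ≠ y) (hne' : x' ≠ y') (hc : Commute x y) (hc' : Commute x' y') (he : x * y = x' * y') :
    x' = x ∨ x' = y := by
  have := uniq2 S.cls0_class S.twinFree0 (a := ⟨x', comp_le hx'⟩) (b := ⟨y', comp_le hy'⟩) (c := ⟨x, comp_le hx⟩)
    (e := ⟨y, comp_le hy⟩) hx' hy' hx hy (fun k => hne' (congrArg Subtype.val k))
    (fun k => hne (congrArg Subtype.val k)) (Subtype.ext hc'.eq) (Subtype.ext hc.eq) (Subtype.ext he.symm)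
  exact this.imp (congrArg Subtype.val) (congrArg Subtype.val)

/-- A product of two commuting members is no member. -/
theorem pair_ne {x y t : G} (hx : x ∈ comp z) (hy : y ∈ comp z) (ht : t ∈ comp z) (hne : x ≠ y)
    (hc : Commute x y) : x * y ≠ t := by
  intro e
  have hxD := S.comp_sub hx
  have hyD := S.comp_sub hy
  have htD := S.comp_sub ht
  have hxt : Commute x t := e ▸ (Commute.refl x).mul_right hc
  have hty : Commute t y := e ▸ hc.mul_left (Commute.refl y)
  have ex : x = y * t := by rw [← e, hc.eq, ← mul_assoc, S.sq hyD, one_mul]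
  have nyt : y ≠ t := fun k => by
    have := S.two_mem hxD
    rw [ex, k, S.sq htD, orderOf_one] at this
    norm_num at this
  have nxt : t ≠ x := fun k => by
    have := S.two_mem hyD
    rw [← k] at e
    rw [mul_eq_left.1 e, orderOf_one] at this
    norm_num at this
  have hyp : y ∈ perp D x := ⟨hyD, Ne.symm hne, hc⟩
  have htp : t ∈ perp D x := ⟨htD, nxt, hxt⟩
  obtain ⟨c, hcp, hcy, -⟩ := S.exists_apart hxD hyp hyp
  have hcc := comp_perp hx hcp
  have hct : ¬ Commute c t := fun k => hcy (by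
    have : y = x * t := by rw [← e, ← mul_assoc, S.sq hxD, one_mul]
    rw [this]
    exact hcp.2.2.symm.mul_right k)
  have h1 : c * y * c⁻¹ ∈ comp z := S.comp_conj (comp_le hcc) hy
  have h2 : c * t * c⁻¹ ∈ comp z := S.comp_conj (comp_le hcc) ht
  rcases S.pair_unique hy ht h1 h2 nyt (fun k => nyt (mul_left_cancel (mul_right_cancel k))) hty.symm
      ((commute_conj_iff c _ _).2 hty.symm)
      (by rw [show c * y * c⁻¹ * (c * t * c⁻¹) = c * (y * t) * c⁻¹ by simp [mul_assoc], ← ex,
        hcp.2.2.symm.eq, mul_inv_cancel_right]) with k | k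
  · exact hcy (mul_inv_eq_iff_eq_mul.1 k)
  · rw [S.inv hcp.1] at k
    have hbr := (S.braid_or_commute hcc hy).resolve_left hcy
    rw [hbr] at k
    have k' : Commute (y * c * y) y := k ▸ hty
    have e' := k'.eq
    rw [mul_assoc (y * c), S.sq hyD, mul_one, ← mul_assoc, ← mul_assoc, S.sq hyD, one_mul] at e'
    exact hcy e'.symm

omit [Finite G] in
theorem list_four {α : Type*} {s : Set α} (hs : s.ncard = 4) :
    ∃ a b c d : α, [a, b, c, d].Nodup ∧ ∀ x, x ∈ s ↔ x ∈ [a, b, c, d] := by
  classical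
  have hfin : s.Finite := Set.finite_of_ncard_pos (by omega)
  obtain ⟨l, hl⟩ : ∃ l, l = hfin.toFinset.toList := ⟨_, rfl⟩
  have hlen : l.length = 4 := by rw [hl, Finset.length_toList, ← Set.ncard_eq_toFinset_card s hfin, hs]
  have hmem : ∀ x, x ∈ s ↔ x ∈ l := fun x => by rw [hl, Finset.mem_toList, Set.Finite.mem_toFinset]
  have hnd : l.Nodup := hl ▸ Finset.nodup_toList _
  match l, hlen with
  | [a, b, c, d], _ => exact ⟨a, b, c, d, hnd, hmem⟩

/-- The four members over a transvection have product `z`. -/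
theorem line_prod {e : Q4} (he : e ∈ E4) : ∃ a b c d : G, [a, b, c, d].Nodup ∧
    (∀ u, (u ∈ perp D z ∧ S.img u = e) ↔ u ∈ [a, b, c, d]) ∧ a * b * c * d = z := by
  classical
  obtain ⟨a, b, c, d, hnd, hmem⟩ := S.list_four (S.fibre' he)
  have hm : ∀ u, (u ∈ perp D z ∧ S.img u = e) ↔ u ∈ [a, b, c, d] := hmem
  have hin : ∀ u ∈ [a, b, c, d], u ∈ perp D z ∧ S.img u = e := fun u => (hm u).2
  have hcomm : ∀ u ∈ [a, b, c, d], ∀ v ∈ [a, b, c, d], Commute u v := fun u hu v hv =>
    S.comm_of_eq (hin u hu).1 (hin v hv).1 ((hin u hu).2.trans (hin v hv).2.symm)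
  refine ⟨a, b, c, d, hnd, hm, ?_⟩
  have hPC : a * b * c * d ∈ CC z :=
    mul_mem (mul_mem (mul_mem (perp_CC (hin a (by simp)).1) (perp_CC (hin b (by simp)).1))
      (perp_CC (hin c (by simp)).1)) (perp_CC (hin d (by simp)).1)
  have hker : (⟨_, hPC⟩ : ↥(CC z)) ∈ S.π.ker := by
    rw [MonoidHom.mem_ker, ← S.img_eq hPC,
      S.img_mul (mul_mem (mul_mem (perp_CC (hin a (by simp)).1) (perp_CC (hin b (by simp)).1))
        (perp_CC (hin c (by simp)).1)) (perp_CC (hin d (by simp)).1),
      S.img_mul (mul_mem (perp_CC (hin a (by simp)).1) (perp_CC (hin b (by simp)).1)) (perp_CC (hin c (by simp)).1),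
      S.img_mul (perp_CC (hin a (by simp)).1) (perp_CC (hin b (by simp)).1), (hin a (by simp)).2,
      (hin b (by simp)).2, (hin c (by simp)).2, (hin d (by simp)).2, U62Rec.sq he, one_mul, U62Rec.sq he]
  have hP : [a, b, c, d].prod = a * b * c * d := by simp [mul_assoc]
  rcases S.ker_centre _ hker (fun g hg => by
    have hgz : Commute (g : G) z := mem_CC.1 g.2
    have gimg : S.img (g : G) = 1 := (S.img_eq g.2).trans hg
    have himg : ∀ u ∈ [a, b, c, d], (g : G) * u * (g : G)⁻¹ ∈ [a, b, c, d] := by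
      intro u hu
      have hu' := hin u hu
      have hp := perp_map (z := z) (g : G) hu'.1
      rw [show (g : G) * z * (g : G)⁻¹ = z by rw [hgz.eq, mul_inv_cancel_right]] at hp
      refine (hm _).1 ⟨hp, ?_⟩
      rw [S.img_mul (mul_mem g.2 (perp_CC hu'.1)) (inv_mem g.2), S.img_mul g.2 (perp_CC hu'.1), gimg, one_mul,
        show S.img (g : G)⁻¹ = 1 from (S.img_eq (inv_mem g.2)).trans (by
          show S.π g⁻¹ = 1
          rw [map_inv, show S.π g = 1 from hg, inv_one]), mul_one, hu'.2]
    have hperm : ([a, b, c, d].map fun u => (g : G) * u * (g : G)⁻¹).Perm [a, b, c, d] := by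
      refine (List.subperm_of_subset (hnd.map fun u v k => mul_left_cancel (mul_right_cancel k)) ?_).perm_of_length_le
        (by simp)
      intro v hv
      obtain ⟨u, hu, rfl⟩ := List.mem_map.1 hv
      exact himg u hu
    have hp := hperm.symm.prod_eq' (List.pairwise_of_forall_mem_list hcomm)
    rw [hP, show ([a, b, c, d].map fun u => (g : G) * u * (g : G)⁻¹).prod = (g : G) * (a * b * c * d) * (g : G)⁻¹ by
      simp [mul_assoc]] at hp
    exact Subtype.ext ((show Commute (g : G) (a * b * c * d) from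
      mul_inv_eq_iff_eq_mul.1 hp.symm).symm.eq)) with k | k
  · exfalso
    have k' : a * b * c * d = 1 := k
    simp only [List.nodup_cons, List.mem_cons, List.not_mem_nil, or_false, not_or] at hnd
    have ha := hin a (by simp)
    have hb := hin b (by simp)
    have hc := hin c (by simp)
    have hd := hin d (by simp)
    have e' : a * b = d * c := by
      rw [mul_assoc (a * b)] at k'
      rw [eq_inv_of_mul_eq_one_left k', mul_inv_rev, S.inv hc.1.1, S.inv hd.1.1]
    rcases S.pair_unique (comp_perp z_comp hd.1) (comp_perp z_comp hc.1) (comp_perp z_comp ha.1)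
        (comp_perp z_comp hb.1) (Ne.symm hnd.2.2.1) hnd.1.1 (hcomm d (by simp) c (by simp))
        (hcomm a (by simp) b (by simp)) e'.symm with q | q
    · exact hnd.1.2.2 q
    · exact hnd.1.2.1 q
  · exact k

/-- The members commuting with `z` generate its centraliser. -/
theorem gen_base : Subgroup.closure (perp D z) = CC z := by
  classical
  haveI : Fintype G := Fintype.ofFinite G
  obtain ⟨P, hP⟩ : ∃ P, P = Subgroup.closure (perp D z) := ⟨_, rfl⟩
  rw [← hP]
  have hle : P ≤ CC z := hP ▸ (Subgroup.closure_le _).2 fun u hu => perp_CC hu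
  obtain ⟨P', hP'⟩ : ∃ P', P' = P.subgroupOf (CC z) := ⟨_, rfl⟩
  -- products of two members over one transvection
  let Pairs : Finset (G × G) := (perp D z).toFinset.biUnion fun u =>
    ((perp D z).toFinset.filter fun v => S.img v = S.img u ∧ v ≠ u).image fun v => (u, v)
  have hcard : Pairs.card = 540 := by
    rw [Finset.card_biUnion, Finset.sum_const_nat (m := 3), ← Set.ncard_eq_toFinset_card', S.card_perp]
    · intro u hu
      rw [Finset.card_image_of_injective _ (fun a b k => congrArg Prod.snd k)]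
      have hu' : u ∈ perp D z := Set.mem_toFinset.1 hu
      have h4 := S.fibre' (S.img_mem hu')
      rw [Set.ncard_eq_toFinset_card'] at h4
      have e : (perp D z).toFinset.filter (fun v => S.img v = S.img u ∧ v ≠ u) =
          {v | v ∈ perp D z ∧ S.img v = S.img u}.toFinset.erase u := by
        ext v; simp; tauto
      rw [e, Finset.card_erase_of_mem (by simpa using hu'), h4]
    · intro u _ v _ hne
      simp only [Function.onFun, Finset.disjoint_left, Finset.mem_image]
      rintro _ ⟨a, -, rfl⟩ ⟨b, -, k⟩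
      exact hne (congrArg Prod.fst k).symm
  have hmemP : ∀ pr ∈ Pairs, pr.1 ∈ perp D z ∧ pr.2 ∈ perp D z ∧ S.img pr.2 = S.img pr.1 ∧ pr.2 ≠ pr.1 := by
    intro pr hpr
    simp only [Pairs, Finset.mem_biUnion, Finset.mem_image, Finset.mem_filter, Set.mem_toFinset] at hpr
    obtain ⟨u, hu, v, ⟨hv, k1, k2⟩, rfl⟩ := hpr
    exact ⟨hu, hv, k1, k2⟩
  have hfib : Pairs.card ≤ 2 * (Pairs.image fun pr => pr.1 * pr.2).card := by
    refine Finset.card_le_mul_card_image _ 2 fun g hg => ?_
    obtain ⟨⟨u, v⟩, huv, rfl⟩ := Finset.mem_image.1 hg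
    refine (Finset.card_le_card (t := {(u, v), (v, u)}) fun pr hpr => ?_).trans (Finset.card_le_two)
    obtain ⟨hpr, he⟩ := Finset.mem_filter.1 hpr
    obtain ⟨a1, a2, a3, a4⟩ := hmemP _ huv
    obtain ⟨b1, b2, b3, b4⟩ := hmemP _ hpr
    have k := S.pair_unique (comp_perp z_comp a1) (comp_perp z_comp a2) (comp_perp z_comp b1) (comp_perp z_comp b2)
      (Ne.symm a4) (Ne.symm b4) (S.comm_of_eq a1 a2 a3.symm) (S.comm_of_eq b1 b2 b3.symm) he.symm
    simp only [Finset.mem_insert, Finset.mem_singleton]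
    rcases k with k | k
    · refine Or.inl (Prod.ext k ?_)
      rw [k] at he
      exact mul_left_cancel he
    · refine Or.inr (Prod.ext k ?_)
      rw [k] at he
      exact mul_left_cancel (he.trans (S.comm_of_eq a1 a2 a3.symm).eq)
  obtain ⟨K, hK⟩ : ∃ K, K = P' ⊓ S.π.ker := ⟨_, rfl⟩
  have hsub : ∀ g ∈ Pairs.image (fun pr => pr.1 * pr.2), ∃ k : ↥(CC z), k ∈ K ∧ (k : G) = g := by
    intro g hg
    obtain ⟨⟨u, v⟩, huv, rfl⟩ := Finset.mem_image.1 hg
    obtain ⟨a1, a2, a3, -⟩ := hmemP _ huv
    refine ⟨⟨u * v, mul_mem (perp_CC a1) (perp_CC a2)⟩, ?_, rfl⟩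
    rw [hK, hP']
    refine ⟨?_, ?_⟩
    · show u * v ∈ P
      exact hP ▸ mul_mem (Subgroup.subset_closure a1) (Subgroup.subset_closure a2)
    · show S.π _ = 1
      rw [← S.img_eq (mul_mem (perp_CC a1) (perp_CC a2)), S.img_mul (perp_CC a1) (perp_CC a2), a3,
        U62Rec.sq (S.img_mem a1)]
  have hK257 : 256 < Nat.card K := by
    have h1 : (Pairs.image fun pr => pr.1 * pr.2).card ≤ Nat.card K := by
      rw [← Nat.card_eq_finsetCard]
      choose f hf hf' using hsub
      refine Nat.card_le_card_of_injective (fun g => (⟨f g.1 g.2, hf g.1 g.2⟩ : K)) fun a b k => Subtype.ext ?_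
      rw [← hf' a.1 a.2, ← hf' b.1 b.2]
      exact congrArg (fun w : K => ((w : ↥(CC z)) : G)) k
    omega
  have hKeq : S.π.ker ≤ P' := by
    have hle' : K ≤ S.π.ker := hK ▸ inf_le_right
    have hd : Nat.card K ∣ 512 := S.card_ker ▸ Subgroup.card_dvd_of_le hle'
    obtain ⟨i, hi, hi'⟩ := (Nat.dvd_prime_pow Nat.prime_two).1 (show Nat.card K ∣ 2 ^ 9 from hd)
    have : i = 9 := by
      by_contra hne
      have : 2 ^ i ≤ 2 ^ 8 := Nat.pow_le_pow_right (by norm_num) (by omega)
      omega
    have e : K = S.π.ker := Subgroup.eq_of_le_of_card_ge hle' (by rw [hi', this, S.card_ker]; norm_num)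
    rw [← e, hK]
    exact inf_le_left
  have hmap : P'.map S.π = ⊤ := by
    rw [eq_top_iff, ← q_class.2.2, Subgroup.closure_le]
    intro e he
    obtain ⟨u, hu, rfl⟩ := S.exists_over he
    refine ⟨⟨u, perp_CC hu⟩, ?_, (S.img_eq _).symm⟩
    rw [hP']
    show u ∈ P
    exact hP ▸ Subgroup.subset_closure hu
  refine le_antisymm hle fun g hg => ?_
  obtain ⟨p, hp, hpe⟩ : S.π ⟨g, hg⟩ ∈ P'.map S.π := hmap ▸ Subgroup.mem_top _
  have : p⁻¹ * ⟨g, hg⟩ ∈ P' := hKeq (by rw [MonoidHom.mem_ker, map_mul, map_inv, hpe, inv_mul_cancel])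
  have := mul_mem hp this
  rw [mul_inv_cancel_left, hP'] at this
  exact this

theorem centralizer_perp {x : G} (hx : x ∈ D) : Subgroup.closure (perp D x) = CC x := by
  rw [← conjugatesOf_eq hx]
  exact (S.at hx).gen_base

theorem centralizer_le {x : G} (hx : x ∈ comp z) : CC x ≤ G0 z := by
  rw [← S.centralizer_perp (S.comp_sub hx), Subgroup.closure_le]
  exact fun y hy => comp_le (comp_perp hx hy)

end Setting

end Cfsg.Agent.Fus.U62Rec
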