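import Cfsg.Agent.Lib.Fus.U62Rec.Component
import Mathlib.Combinatorics.Enumerative.DoubleCounting

/-! The component has 693 members and generates a simple group of order `9196830720`. -/

set_option autoImplicit false
set_option linter.style.haveILetI false
set_option linter.unusedSectionVars false
set_option linter.deprecated false

namespace Cfsg.Agent.Fus.U62Rec

open Cfsg Cfsg.Agent.Spor.ThreeTrans Cfsg.Agent.Block.FischerTypes
open scoped commutatorElement

theorem closed_card {q : Q4} (hq : q ∈ E4) : {s | s ∈ E4 ∧ Commute s q}.ncard = 13 := by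
  have e : {s | s ∈ E4 ∧ Commute s q} = insert q {s | s ∈ E4 ∧ (s ≠ q ∧ Commute s q)} := by
    ext s
    simp only [Set.mem_insert_iff, Set.mem_setOf_eq]
    constructor
    · intro h
      by_cases k : s = q
      · exact Or.inl k
      · exact Or.inr ⟨h.1, k, h.2⟩
    · rintro (rfl | h)
      · exact ⟨hq, Commute.refl _⟩
      · exact ⟨h.1, h.2.2⟩
  rw [e, Set.ncard_insert_of_notMem (fun h => h.2.1 rfl) (Set.toFinite _), nb_card hq]

theorem open_card {q : Q4} (hq : q ∈ E4) : {s | s ∈ E4 ∧ ¬ Commute s q}.ncard = 32 := by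
  have e : {s | s ∈ E4 ∧ ¬ Commute s q} = {s | s ∈ E4} \ {s | s ∈ E4 ∧ Commute s q} := by
    ext s
    simp only [Set.mem_diff, Set.mem_setOf_eq]
    tauto
  rw [e, Set.ncard_sdiff (fun s hs => hs.1) (Set.toFinite _), card_E4, closed_card hq]

variable {G : Type*} [Group G] [Finite G] {z : G}

local notation "D" => conjugatesOf z

namespace Setting

variable (S : Setting z)
include S

theorem commuting_card {x p : G} (hx : x ∈ D) (hp : p ∈ perp D x) :
    {q | q ∈ perp D x ∧ Commute q p}.ncard = 52 := by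
  have e : {q | q ∈ perp D x ∧ Commute q p} =
      {q | q ∈ perp D x ∧ (fun r => Commute r (S.im x p)) (S.im x q)} :=
    Set.ext fun q => and_congr_right fun hq => S.im_comm hx hq hp
  rw [e, S.im_card hx (fun r => Commute r (S.im x p)), closed_card (S.im_mem hx hp)]

theorem apart_card {x p : G} (hx : x ∈ D) (hp : p ∈ perp D x) :
    {q | q ∈ perp D x ∧ ¬ Commute q p}.ncard = 128 := by
  have e : {q | q ∈ perp D x ∧ ¬ Commute q p} =
      {q | q ∈ perp D x ∧ (fun r => ¬ Commute r (S.im x p)) (S.im x q)} :=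
    Set.ext fun q => and_congr_right fun hq => not_congr (S.im_comm hx hq hp)
  rw [e, S.im_card hx (fun r => ¬ Commute r (S.im x p)), open_card (S.im_mem hx hp)]

/-- Two members apart have forty-five common neighbours. -/
theorem common45 {y a : G} (hy : y ∈ D) (hj : Joined D y a) (hnc : ¬ Commute a y) :
    {u | u ∈ perp D y ∧ Commute u a}.ncard = 45 := by
  have ha := S.joined_mem hy hj
  obtain ⟨U, hU⟩ : ∃ U, U = {u | u ∈ perp D y ∧ Commute u a} := ⟨_, rfl⟩
  rw [← hU]
  have hUa : ∀ u ∈ U, u ∈ perp D a := by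
    rw [hU]
    rintro u ⟨hu, hua⟩
    exact ⟨hu.1, fun e => hnc (e ▸ hu.2.2).symm, hua.symm⟩
  have hUy : ∀ u ∈ U, u ∈ perp D y ∧ Commute u a := fun u hu => by rw [hU] at hu; exact hu
  have inj : Set.InjOn (S.im y) U := by
    intro u hu v hv k
    by_contra hne
    obtain ⟨u1, u2⟩ := hUy u hu
    obtain ⟨v1, v2⟩ := hUy v hv
    have e := S.move hy u1 v1 (Ne.symm hne) k.symm
    have hyu : y ∈ perp D u := perp_sym hy u1
    have hvu : v ∈ perp D u := ⟨v1.1, Ne.symm hne, S.comm_of_im hy u1 v1 k⟩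
    exact hnc ((S.line_iff u1.1 hvu hyu).2 e.symm a ha u2.symm v2.symm)
  have surj : S.im y '' U = E4 := by
    refine Set.Subset.antisymm ?_ fun e he => ?_
    · rintro _ ⟨u, hu, rfl⟩
      exact S.im_mem hy (hUy u hu).1
    have next' : ∀ f ∈ S.im y '' U, ∀ e ∈ E4, Commute e f → e ∈ S.im y '' U := by
      rintro _ ⟨x, hx, rfl⟩ e he hec
      obtain ⟨u, hu, hua, hue⟩ := S.around ha hy (hUa x hx) (hUy x hx).1 hnc he hec
      exact ⟨u, hU ▸ ⟨hu, hua⟩, hue⟩
    obtain ⟨x, hx⟩ : ∃ x, x ∈ U := by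
      rcases S.joined_near hy hj with e | k | ⟨c, h1, h2⟩
      · exact absurd (e ▸ Commute.refl y) hnc
      · exact absurd k.symm hnc
      · exact ⟨c, hU ▸ ⟨h1, h2.2.2.symm⟩⟩
    obtain ⟨s, hs, k1, k2⟩ := meet (S.im_mem hy (hUy x hx).1) he
    exact next' s (next' _ ⟨x, hx, rfl⟩ s hs k1) e he k2.symm
  rw [← inj.ncard_image, surj]
  exact card_E4

theorem comp_card : (comp z).ncard = 693 := by
  classical
  haveI : Fintype G := Fintype.ofFinite G
  have hz : z ∈ D := mem_conjugatesOf_self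
  obtain ⟨A, hA⟩ : ∃ A, A = {a | a ∈ comp z ∧ ¬ Commute a z} := ⟨_, rfl⟩
  have hsplit : comp z = insert z (perp D z) ∪ A := by
    ext a
    simp only [hA, Set.mem_union, Set.mem_insert_iff, Set.mem_setOf_eq]
    constructor
    · intro ha
      by_cases k : Commute a z
      · left
        by_cases e : a = z
        · exact Or.inl e
        · exact Or.inr ⟨S.comp_sub ha, e, k.symm⟩
      · exact Or.inr ⟨ha, k⟩
    · rintro ((rfl | h) | h)
      exacts [z_comp, comp_perp z_comp h, h.1]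
  have hdisj : Disjoint (insert z (perp D z)) A := by
    rw [Set.disjoint_left, hA]
    rintro a (rfl | h) ⟨-, k⟩
    exacts [k (Commute.refl _), k h.2.2.symm]
  have hAcard : A.ncard = 512 := by
    have h := Finset.card_mul_eq_card_mul (fun (x : G) (a : G) => Commute x a)
      (s := (perp D z).toFinset) (t := A.toFinset) (m := 128) (n := 45) ?_ ?_
    · rw [← Set.ncard_eq_toFinset_card', ← Set.ncard_eq_toFinset_card', S.card_perp] at h
      omega
    · intro x hx
      rw [Set.mem_toFinset] at hx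
      have hxD : x ∈ D := hx.1
      rw [← S.apart_card hxD (perp_sym hz hx), Set.ncard_eq_toFinset_card']
      congr 1
      ext a
      simp only [Finset.mem_bipartiteAbove, Set.mem_toFinset, hA, Set.mem_setOf_eq]
      constructor
      · rintro ⟨⟨ha, hnc⟩, hxa⟩
        exact ⟨⟨S.comp_sub ha, fun e => hnc (e ▸ hx.2.2).symm, hxa⟩, hnc⟩
      · rintro ⟨ha, hnc⟩
        exact ⟨⟨comp_perp (comp_perp z_comp hx) ha, hnc⟩, ha.2.2⟩
    · intro a ha
      rw [Set.mem_toFinset, hA] at ha
      rw [← S.common45 hz ha.1 ha.2, Set.ncard_eq_toFinset_card']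
      congr 1
      ext x
      simp [Finset.mem_bipartiteBelow]
  rw [hsplit, Set.ncard_union_eq hdisj (Set.toFinite _) (Set.toFinite _),
    Set.ncard_insert_of_notMem (fun h => h.2.1 rfl) (Set.toFinite _), S.card_perp, hAcard]

theorem card_CC : Nat.card ↥(CC z) = 512 * 25920 := by
  rw [Subgroup.card_eq_card_quotient_mul_card_subgroup S.π.ker, S.card_ker, ← card_Q4, mul_comm]
  exact congrArg (512 * ·) (Nat.card_congr (QuotientGroup.quotientKerEquivOfSurjective S.π S.surj).toEquiv)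

theorem card_G0 : Nat.card ↥(G0 z) = 9196830720 := by
  obtain ⟨C, hC⟩ : ∃ C, C = (CC z).subgroupOf (G0 z) := ⟨_, rfl⟩
  have hle := S.centralizer_le z_comp
  have h1 : Nat.card C = 512 * 25920 := by
    rw [hC, Nat.card_congr (Subgroup.subgroupOfEquivOfLe hle).toEquiv, S.card_CC]
  have key : ∀ g h : ↥(G0 z), g⁻¹ * h ∈ C ↔ (g : G) * z * (g : G)⁻¹ = (h : G) * z * (h : G)⁻¹ := by
    intro g h
    rw [hC, Subgroup.mem_subgroupOf, mem_CC, Subgroup.coe_mul, Subgroup.coe_inv]
    constructor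
    · intro k
      have e := k.eq
      calc (g : G) * z * (g : G)⁻¹ = (g : G) * (z * ((g : G)⁻¹ * h)) * (h : G)⁻¹ := by simp [mul_assoc]
        _ = _ := by rw [← e]; simp [mul_assoc]
    · intro k
      show (g : G)⁻¹ * h * z = z * ((g : G)⁻¹ * h)
      calc (g : G)⁻¹ * h * z = (g : G)⁻¹ * ((h : G) * z * (h : G)⁻¹) * h := by simp [mul_assoc]
        _ = _ := by rw [← k]; simp [mul_assoc]
  have h2 : C.index = 693 := by
    rw [← S.comp_card, Subgroup.index, ← Nat.card_coe_set_eq]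
    let f : ↥(G0 z) → ↥(comp z) := fun g => ⟨(g : G) * z * (g : G)⁻¹, S.comp_conj g.2 z_comp⟩
    refine Nat.card_congr (Equiv.ofBijective (Quotient.lift f fun g h k => Subtype.ext ?_) ⟨?_, ?_⟩)
    · exact (key g h).1 (QuotientGroup.leftRel_apply.1 k)
    · rintro ⟨g⟩ ⟨h⟩ k
      exact Quotient.sound (QuotientGroup.leftRel_apply.2 ((key g h).2 (congrArg Subtype.val k)))
    · rintro ⟨x, hx⟩
      obtain ⟨g, hg, e⟩ := S.comp_transitive hx
      exact ⟨QuotientGroup.mk ⟨g, hg⟩, Subtype.ext e⟩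
  rw [← Subgroup.card_mul_index C, h1, h2]

theorem exists_apart_comp : ∃ c ∈ comp z, ¬ Commute c z := by
  obtain ⟨u, hu, -⟩ := S.exists_over (q_class.2.1.choose_spec.1)
  have hz : z ∈ perp D u := perp_sym mem_conjugatesOf_self hu
  obtain ⟨c, hc, hcz, -⟩ := S.exists_apart hu.1 hz hz
  exact ⟨c, comp_perp (comp_perp z_comp hu) hc, hcz⟩

theorem center0 : Subgroup.center ↥(G0 z) = ⊥ := by
  rw [Subgroup.eq_bot_iff_forall]
  intro g hg
  have hcomm : ∀ y ∈ G0 z, Commute (g : G) y := fun y hy =>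
    (congrArg Subtype.val (Subgroup.mem_center_iff.mp hg ⟨y, hy⟩)).symm
  have hgC : (g : G) ∈ CC z := mem_CC.2 (hcomm z (comp_le z_comp))
  have hker : (⟨(g : G), hgC⟩ : ↥(CC z)) ∈ S.π.ker := by
    refine faithful fun e he => ?_
    obtain ⟨u, hu⟩ := S.surj e
    rw [← hu]
    exact (show Commute _ u from Subtype.ext (hcomm u (S.centralizer_le z_comp u.2)).eq).map S.π
  rcases S.ker_centre _ hker fun w _ => Subtype.ext (hcomm w (S.centralizer_le z_comp w.2)).eq with k | k
  · exact Subtype.ext k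
  · exfalso
    obtain ⟨c, hc, hcz⟩ := S.exists_apart_comp
    refine hcz ?_
    have h := hcomm c (comp_le hc)
    rw [show (g : G) = z from k] at h
    exact h.symm

theorem z_commutator : (⟨z, comp_le z_comp⟩ : ↥(G0 z)) ∈ commutator ↥(G0 z) := by
  obtain ⟨u, hu, -⟩ := S.exists_over (q_class.2.1.choose_spec.1)
  obtain ⟨a, b, c, d, -, hm, hprod⟩ := S.line_prod (S.img_mem hu)
  have hin : ∀ v ∈ [a, b, c, d], v ∈ comp z := fun v hv => comp_perp z_comp ((hm v).2 hv).1
  let f : ↥(G0 z) →* Abelianization ↥(G0 z) := Abelianization.of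
  obtain ⟨t, ht⟩ : ∃ t, t = f ⟨z, comp_le z_comp⟩ := ⟨_, rfl⟩
  have he : ∀ v (hv : v ∈ comp z), f ⟨v, comp_le hv⟩ = t := fun v hv => by
    obtain ⟨g, hg, e⟩ := S.comp_transitive hv
    rw [show (⟨v, comp_le hv⟩ : ↥(G0 z)) = ⟨g, hg⟩ * ⟨z, comp_le z_comp⟩ * (⟨g, hg⟩ : ↥(G0 z))⁻¹ from
      Subtype.ext e.symm, map_mul, map_mul, map_inv, mul_inv_cancel_comm, ht]
  have h2 : t * t = 1 := by
    rw [ht, ← map_mul, show (⟨z, comp_le z_comp⟩ : ↥(G0 z)) * ⟨z, comp_le z_comp⟩ = 1 from
      Subtype.ext (S.sq mem_conjugatesOf_self), map_one]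
  have h4 : t = t * t * t * t := by
    conv_lhs => rw [ht, show (⟨z, comp_le z_comp⟩ : ↥(G0 z)) = ⟨a, comp_le (hin a (by simp))⟩ *
      ⟨b, comp_le (hin b (by simp))⟩ * ⟨c, comp_le (hin c (by simp))⟩ * ⟨d, comp_le (hin d (by simp))⟩ from
      Subtype.ext hprod.symm, map_mul, map_mul, map_mul, he a (hin a (by simp)), he b (hin b (by simp)), he c (hin c (by simp)),
      he d (hin d (by simp))]
  rw [h2, one_mul, h2, ht] at h4
  rw [← Abelianization.ker_of]
  exact h4

theorem perfect0 : commutator ↥(G0 z) = ⊤ := by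
  rw [eq_top_iff, ← S.cls0_class.2.2, Subgroup.closure_le]
  intro x hx
  obtain ⟨g, hg, e⟩ := S.comp_transitive hx
  have : (⟨g, hg⟩ : ↥(G0 z)) * ⟨z, comp_le z_comp⟩ * (⟨g, hg⟩ : ↥(G0 z))⁻¹ = x := Subtype.ext e
  rw [← this]
  exact Subgroup.Normal.conj_mem inferInstance _ S.z_commutator _

theorem simple0 : IsSimpleGroup ↥(G0 z) := by
  classical
  have hne : (⟨z, comp_le z_comp⟩ : ↥(G0 z)) ≠ 1 := fun e => by
    have := S.two
    rw [show z = 1 from congrArg Subtype.val e, orderOf_one] at this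
    norm_num at this
  haveI : Nontrivial ↥(G0 z) := ⟨⟨_, _, hne⟩⟩
  refine ⟨fun N hN => or_iff_not_imp_left.2 fun hbot => ?_⟩
  let R : G → G → Prop := fun a b => a * b ∈ N.map (G0 z).subtype
  obtain ⟨M, hM⟩ : ∃ M, M = N.map (G0 z).subtype := ⟨_, rfl⟩
  have hRM : ∀ {a b : G}, R a b ↔ a * b ∈ M := fun {a b} => by rw [hM]
  have Mconj : ∀ g ∈ G0 z, ∀ n ∈ M, g * n * g⁻¹ ∈ M := by
    rw [hM]
    rintro g hg _ ⟨n, hn, rfl⟩
    exact ⟨⟨g, hg⟩ * n * (⟨g, hg⟩ : ↥(G0 z))⁻¹, hN.conj_mem n hn _, rfl⟩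
  have trans' : ∀ {a b c : G}, b ∈ comp z → R a b → R b c → R a c := fun {a b c} hb h1 h2 => by
    rw [hRM] at *
    have := mul_mem h1 h2
    rwa [mul_assoc, ← mul_assoc b, S.sq (S.comp_sub hb), one_mul] at this
  have symm' : ∀ {a b : G}, a ∈ comp z → b ∈ comp z → R a b → R b a := fun {a b} ha hb h => by
    rw [hRM] at *
    have := inv_mem h
    rwa [mul_inv_rev, S.inv (S.comp_sub ha), S.inv (S.comp_sub hb)] at this
  have conj' : ∀ {a b g : G}, g ∈ G0 z → R a b → R (g * a * g⁻¹) (g * b * g⁻¹) := fun {a b g} hg h => by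
    rw [hRM] at *
    have := Mconj g hg _ h
    rwa [show g * a * g⁻¹ * (g * b * g⁻¹) = g * (a * b) * g⁻¹ by simp [mul_assoc]]
  have step : ∀ {a b d : G}, a ∈ comp z → b ∈ comp z → d ∈ comp z → R a b → Commute d a → ¬ Commute d b → R a d := by
    intro a b d ha hb hd h hda hdb
    have sd := S.sq (S.comp_sub hd)
    have sb := S.sq (S.comp_sub hb)
    have h1 : R a (d * b * d) := by
      have := conj' (comp_le hd) h
      rwa [S.inv (S.comp_sub hd), show d * a * d = a by rw [hda.eq, mul_assoc, sd, mul_one]] at this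
    have h2 : R (b * a * b) d := by
      have hbr := (S.braid_or_commute hd hb).resolve_left hdb
      have := conj' (comp_le hb) h1
      rwa [S.inv (S.comp_sub hb), hbr, show b * (b * d * b) * b = d by
        simp only [← mul_assoc, sb, one_mul]; rw [mul_assoc, sb, mul_one]] at this
    have h3 : R a (b * a * b) := by
      rw [hRM] at *
      have := mul_mem h h
      rwa [show a * b * (a * b) = a * (b * a * b) by simp [mul_assoc]] at this
    have hbab : b * a * b ∈ comp z := by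
      have := S.comp_conj (comp_le hb) ha
      rwa [S.inv (S.comp_sub hb)] at this
    exact trans' hbab h3 h2
  -- a pair apart
  obtain ⟨a, b, ha, hb, hab, hR⟩ : ∃ a b, a ∈ comp z ∧ b ∈ comp z ∧ ¬ Commute a b ∧ R a b := by
    obtain ⟨a, b, ha, hb, hne', hR⟩ : ∃ a b, a ∈ comp z ∧ b ∈ comp z ∧ a ≠ b ∧ R a b := by
      by_contra hno
      push Not at hno
      refine hbot ((Subgroup.eq_bot_iff_forall _).2 fun n hn => ?_)
      rw [← Subgroup.mem_bot, ← S.center0, Subgroup.mem_center_iff]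
      have hall : ∀ x ∈ cls0 z, x ∈ Subgroup.centralizer ({n} : Set ↥(G0 z)) := by
        intro x hx
        refine Subgroup.mem_centralizer_singleton_iff.2 (mul_inv_eq_iff_eq_mul.1 ?_).symm
        by_contra hne'
        refine hno (x : G) ((n : G) * x * (n : G)⁻¹) hx (S.comp_conj n.2 hx) (fun e => hne' (Subtype.ext e.symm)) ?_
        rw [hRM, hM]
        refine ⟨x * n * x⁻¹ * n⁻¹, mul_mem (hN.conj_mem n hn x) (inv_mem hn), ?_⟩
        simp only [Subgroup.subtype_apply, Subgroup.coe_mul, Subgroup.coe_inv, S.inv (S.comp_sub hx), mul_assoc]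
      intro y
      have := (Subgroup.closure_le _).2 hall (S.cls0_class.2.2 ▸ Subgroup.mem_top y)
      exact Subgroup.mem_centralizer_singleton_iff.1 this
    by_cases hc : Commute a b
    · have hp : b ∈ perp D a := ⟨S.comp_sub hb, Ne.symm hne', hc⟩
      obtain ⟨d, hd, hdb, -⟩ := S.exists_apart (S.comp_sub ha) hp hp
      have hdc := comp_perp ha hd
      exact ⟨b, d, hb, hdc, fun k => hdb k.symm,
        trans' ha (symm' ha hb hR) (step ha hb hdc hR hd.2.2.symm hdb)⟩
    · exact ⟨a, b, ha, hb, hc, hR⟩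
  have spread : ∀ {a b : G}, a ∈ comp z → b ∈ comp z → ¬ Commute a b → R a b →
      ∀ x ∈ perp D a, R a x ∧ ∃ d, d ∈ comp z ∧ ¬ Commute x d ∧ R x d := by
    intro a b ha hb hab hR x hx
    have haD := S.comp_sub ha
    have all : ∀ x ∈ perp D a, R a x := by
      intro x hx
      have hxc := comp_perp ha hx
      by_cases hxb : Commute x b
      swap
      · exact step ha hb hxc hR hx.2.2.symm hxb
      obtain ⟨a1, ha1, h1, h2⟩ : ∃ a1 ∈ perp D a, ¬ Commute a1 x ∧ ¬ Commute a1 b := by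
        by_contra hno
        push Not at hno
        have h := Set.ncard_le_ncard (s := {q | q ∈ perp D a ∧ ¬ Commute q x})
          (t := {q | q ∈ perp D a ∧ Commute q b}) (fun q hq => ⟨hq.1, hno q hq.1 hq.2⟩) (Set.toFinite _)
        rw [S.apart_card haD hx, S.common45 haD (S.joined_comp ha hb) fun k => hab k.symm] at h
        norm_num at h
      have ha1c := comp_perp ha ha1
      exact step ha ha1c hxc (step ha hb ha1c hR ha1.2.2.symm h2) hx.2.2.symm fun k => h1 k.symm
    obtain ⟨d, hd, hdx, -⟩ := S.exists_apart haD hx hx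
    exact ⟨all x hx, d, comp_perp ha hd, fun k => hdx k.symm,
      trans' ha (symm' ha (comp_perp ha hx) (all x hx)) (all d hd)⟩
  have whole0 : ∀ x, Joined D a x → R a x ∧ ∃ d, d ∈ comp z ∧ ¬ Commute x d ∧ R x d := by
    intro x hx
    induction hx with
    | refl =>
      refine ⟨?_, b, hb, hab, hR⟩
      rw [hRM, S.sq (S.comp_sub ha)]
      exact one_mem _
    | tail h1 hbc ih =>
      obtain ⟨k1, d, hd, kd, k2⟩ := ih
      have hpc := Relation.ReflTransGen.trans (show Joined D z a from ha) h1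
      obtain ⟨m1, m2⟩ := spread hpc hd kd k2 _ hbc
      exact ⟨trans' hpc k1 m1, m2⟩
  let f := QuotientGroup.mk' N
  have hf : ∀ g : ↥(G0 z), f g ∈ Subgroup.zpowers (f ⟨a, comp_le ha⟩) := by
    have hle : Subgroup.closure (cls0 z) ≤ (Subgroup.zpowers (f ⟨a, comp_le ha⟩)).comap f := by
      refine (Subgroup.closure_le _).2 fun x hx => ?_
      have h := (whole0 (x : G) (S.joined_comp ha hx)).1
      rw [hRM, hM] at h
      obtain ⟨n, hn, hne'⟩ := h
      have : f ⟨a, comp_le ha⟩ * f x = 1 := by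
        rw [← map_mul, show (⟨a, comp_le ha⟩ : ↥(G0 z)) * x = n from Subtype.ext hne'.symm]
        exact (QuotientGroup.eq_one_iff n).2 hn
      show f x ∈ Subgroup.zpowers (f ⟨a, comp_le ha⟩)
      rw [eq_inv_of_mul_eq_one_right this]
      exact inv_mem (Subgroup.mem_zpowers _)
    exact fun g => hle (S.cls0_class.2.2 ▸ Subgroup.mem_top g)
  rw [eq_top_iff, ← S.perfect0, commutator_def, Subgroup.commutator_le]
  intro g _ h _
  have : Commute (f g) (f h) := by
    obtain ⟨i, hi⟩ := hf g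
    obtain ⟨j, hj⟩ := hf h
    rw [← hi, ← hj]
    exact (Commute.refl _).zpow_zpow i j
  rw [← QuotientGroup.eq_one_iff (N := N)]
  show f ⁅g, h⁆ = 1
  rw [map_commutatorElement, commutatorElement_eq_one_iff_commute]
  exact this

end Setting

end Cfsg.Agent.Fus.U62Rec
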