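import Cfsg.Agent.Lib.Fus.U62Rec.Local

/-! Lines of five conjugates, and members joined by commuting steps are at most two steps apart. -/

set_option autoImplicit false
set_option linter.style.haveILetI false
set_option linter.unusedSectionVars false
set_option linter.deprecated false

namespace Cfsg.Agent.Fus.U62Rec

open Cfsg Cfsg.Agent.Spor.ThreeTrans

variable {G : Type*} [Group G] [Finite G] {z : G}

local notation "D" => conjugatesOf z

/-- Everything commuting with `s` and `t` commutes with `v`. -/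
def InLine (C : Set G) (s t v : G) : Prop := ∀ y ∈ C, Commute y s → Commute y t → Commute y v

/-- Joined by commuting steps. -/
def Joined (C : Set G) : G → G → Prop := Relation.ReflTransGen fun x y => y ∈ perp C x

/-- At most two steps apart. -/
def Near (C : Set G) (a b : G) : Prop := a = b ∨ Commute a b ∨ ∃ c, c ∈ perp C a ∧ c ∈ perp C b

theorem perp_sym {C : Set G} {x y : G} (hx : x ∈ C) (hy : y ∈ perp C x) : x ∈ perp C y :=
  ⟨hx, Ne.symm hy.2.1, hy.2.2.symm⟩

namespace Setting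

variable (S : Setting z)

/-- The image of `u` at the member `x`. -/
noncomputable def im (x u : G) : Q4 :=
  @dite Q4 (x ∈ conjugatesOf z) (_root_.Classical.propDecidable _) (fun hx => (S.at hx).img u) fun _ => 1

theorem im_eq {x : G} (hx : x ∈ D) : S.im x = (S.at hx).img := funext fun u => by
  classical
  exact dif_pos hx

include S

theorem mem_perp_CC {x u : G} (hu : u ∈ perp D x) : u ∈ CC x := mem_CC.2 hu.2.2.symm

theorem im_mem {x u : G} (hx : x ∈ D) (hu : u ∈ perp D x) : S.im x u ∈ E4 := by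
  rw [S.im_eq hx]
  exact (S.at hx).img_mem (by rwa [conjugatesOf_eq hx])

theorem im_comm {x u v : G} (hx : x ∈ D) (hu : u ∈ perp D x) (hv : v ∈ perp D x) :
    Commute u v ↔ Commute (S.im x u) (S.im x v) := by
  rw [S.im_eq hx]
  exact (S.at hx).comm_iff (by rwa [conjugatesOf_eq hx]) (by rwa [conjugatesOf_eq hx])

theorem comm_of_im {x u v : G} (hx : x ∈ D) (hu : u ∈ perp D x) (hv : v ∈ perp D x) (h : S.im x u = S.im x v) :
    Commute u v := (S.im_comm hx hu hv).2 (h ▸ Commute.refl _)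

theorem im_over {x : G} (hx : x ∈ D) {e : Q4} (he : e ∈ E4) : ∃ u ∈ perp D x, S.im x u = e := by
  rw [S.im_eq hx, ← conjugatesOf_eq hx]
  exact (S.at hx).exists_over he

theorem im_mate {x u : G} (hx : x ∈ D) (hu : u ∈ perp D x) :
    ∃ v ∈ perp D x, S.im x v = S.im x u ∧ v ≠ u := by
  rw [S.im_eq hx, ← conjugatesOf_eq hx]
  exact (S.at hx).exists_mate (by rwa [conjugatesOf_eq hx])

theorem im_card {x : G} (hx : x ∈ D) (P : Q4 → Prop) :
    {u | u ∈ perp D x ∧ P (S.im x u)}.ncard = 4 * {e | e ∈ E4 ∧ P e}.ncard := by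
  rw [S.im_eq hx, ← conjugatesOf_eq hx]
  exact (S.at hx).card_over P

theorem perp_card {x : G} (hx : x ∈ D) : (perp D x).ncard = 180 := by
  rw [← conjugatesOf_eq hx]
  exact (S.at hx).card_perp

theorem im_conj {x u v : G} (hx : x ∈ D) (hu : u ∈ CC x) (hv : v ∈ CC x) :
    S.im x (u * v * u) = S.im x u * S.im x v * S.im x u := by
  rw [S.im_eq hx]
  exact (S.at hx).img_conj hu hv

theorem sq {x : G} (hx : x ∈ D) : x * x = 1 := S.sq_mem hx

theorem inv {x : G} (hx : x ∈ D) : x⁻¹ = x := inv_eq_of_mul_eq_one_right (S.sq hx)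

theorem two_mem {x : G} (hx : x ∈ D) : orderOf x = 2 := (S.at hx).two

theorem conj_mem {u v : G} (hu : u ∈ D) (hv : v ∈ D) : u * v * u ∈ D := by
  have := conjugates_inv u hv
  rwa [S.inv hu] at this

/-- Members over one transvection make a line. -/
theorem line_iff {s t v : G} (hs : s ∈ D) (ht : t ∈ perp D s) (hv : v ∈ perp D s) :
    InLine D s t v ↔ S.im s v = S.im s t := by
  constructor
  · intro h
    by_contra hne
    obtain ⟨r, hr, k1, k2⟩ := sep (S.im_mem hs ht) (S.im_mem hs hv) (Ne.symm hne)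
    obtain ⟨y, hy, rfl⟩ := S.im_over hs hr
    exact k2 ((S.im_comm hs hy hv).1 (h y hy.1 hy.2.2.symm ((S.im_comm hs hy ht).2 k1)))
  · intro e y hy hys hyt
    by_cases k : y = s
    · exact k ▸ hv.2.2
    · have hyp : y ∈ perp D s := ⟨hy, k, hys.symm⟩
      exact (S.im_comm hs hyp hv).2 (e ▸ (S.im_comm hs hyp ht).1 hyt)

theorem line_swap {C : Set G} {s t v : G} (h : InLine C s t v) : InLine C t s v :=
  fun y hy h1 h2 => h y hy h2 h1

theorem move {x u v : G} (hx : x ∈ D) (hu : u ∈ perp D x) (hv : v ∈ perp D x) (hne : v ≠ u)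
    (e : S.im x v = S.im x u) : S.im u v = S.im u x :=
  have huv : Commute u v := S.comm_of_im hx hu hv e.symm
  (S.line_iff hu.1 (perp_sym hx hu) ⟨hv.1, hne, huv⟩).1 (line_swap S ((S.line_iff hx hu hv).2 e))

/-- Two members over one transvection at two places. -/
theorem key {x y u v : G} (hx : x ∈ D) (hy : y ∈ D) (hux : u ∈ perp D x) (hvx : v ∈ perp D x)
    (huy : u ∈ perp D y) (hvy : v ∈ perp D y) (hne : v ≠ u) (ex : S.im x v = S.im x u)
    (ey : S.im y v = S.im y u) : Commute x y ∧ (x ≠ y → S.im x y = S.im x u) := by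
  have e : S.im u x = S.im u y := (S.move hx hux hvx hne ex).symm.trans (S.move hy huy hvy hne ey)
  have hxy : Commute x y := S.comm_of_im hux.1 (perp_sym hx hux) (perp_sym hy huy) e
  exact ⟨hxy, fun hne' => S.move hux.1 (perp_sym hx hux) (perp_sym hy huy) (Ne.symm hne') e.symm⟩

/-- Beside the middle of a path, every neighbour of its image is reached by something commuting with
the far end. -/
theorem around {a y x : G} (ha : a ∈ D) (hy : y ∈ D) (hxa : x ∈ perp D a) (hxy : x ∈ perp D y)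
    (hay : ¬ Commute a y) {e : Q4} (he : e ∈ E4) (hec : Commute e (S.im y x)) :
    ∃ u, u ∈ perp D y ∧ Commute u a ∧ S.im y u = e := by
  by_cases hep : e = S.im y x
  · exact ⟨x, hxy, hxa.2.2.symm, hep.symm⟩
  have hx := hxa.1
  have hyx : y ∈ perp D x := perp_sym hy hxy
  have hax : a ∈ perp D x := perp_sym ha hxa
  have hqa : ¬ Commute (S.im x y) (S.im x a) := fun k => hay ((S.im_comm hx hyx hax).2 k).symm
  let W : Set G := {u | u ∈ perp D x ∧ (Commute (S.im x u) (S.im x y) ∧ Commute (S.im x u) (S.im x a))}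
  have hW : W.ncard = 12 := by
    show {u | u ∈ perp D x ∧ (fun q => Commute q (S.im x y) ∧ Commute q (S.im x a)) (S.im x u)}.ncard = 12
    rw [S.im_card hx (fun q => Commute q (S.im x y) ∧ Commute q (S.im x a)),
      common_card (S.im_mem hx hyx) (S.im_mem hx hax) hqa]
  have hWy : ∀ u ∈ W, u ∈ perp D y ∧ Commute u a := by
    intro u hu
    have h1 := (S.im_comm hx hu.1 hyx).2 hu.2.1
    have h2 := (S.im_comm hx hu.1 hax).2 hu.2.2
    exact ⟨⟨hu.1.1, fun k => hay (k ▸ h2).symm, h1.symm⟩, h2⟩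
  have hinj : Set.InjOn (S.im y) W := by
    intro u hu v hv k
    by_contra hne
    have huv : Commute u v := S.comm_of_im hy (hWy u hu).1 (hWy v hv).1 k
    have ex : S.im x v = S.im x u := by
      by_contra hne'
      exact common_apart (S.im_mem hx hyx) (S.im_mem hx hax) (S.im_mem hx hv.1) (S.im_mem hx hu.1) hqa
        hv.2.1 hv.2.2 hu.2.1 hu.2.2 hne' ((S.im_comm hx hv.1 hu.1).1 huv.symm)
    have := (S.key hx hy hu.1 hv.1 (hWy u hu).1 (hWy v hv).1 (Ne.symm hne) ex k.symm).2 (Ne.symm hyx.2.1)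
    exact hqa (this ▸ hu.2.2)
  have hsub : S.im y '' W ⊆ {s | s ∈ E4 ∧ (s ≠ S.im y x ∧ Commute s (S.im y x))} := by
    rintro _ ⟨u, hu, rfl⟩
    refine ⟨S.im_mem hy (hWy u hu).1, fun k => ?_, (S.im_comm hy (hWy u hu).1 hxy).1 hu.1.2.2.symm⟩
    have k' := (S.line_iff hy hxy (hWy u hu).1).2 k
    have k2 := (S.line_iff hx hyx hu.1).1 (line_swap S k')
    exact hqa (k2 ▸ hu.2.2)
  obtain ⟨u, hu, hue⟩ : e ∈ S.im y '' W := by
    rw [Set.eq_of_subset_of_ncard_le hsub (by
      rw [hinj.ncard_image, hW, nb_card (S.im_mem hy hxy)]) (Set.toFinite _)]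
    exact ⟨he, hep, hec⟩
  exact ⟨u, (hWy u hu).1, (hWy u hu).2, hue⟩

/-- A further step keeps the distance at most two. -/
theorem near_step {a y b : G} (ha : a ∈ D) (hy : y ∈ D) (h : Near D a y) (hb : b ∈ perp D y) :
    Near D a b := by
  by_cases hab : Commute a b
  · exact Or.inr (Or.inl hab)
  by_cases hay : Commute a y
  · by_cases e : a = y
    · exact absurd (e ▸ hb.2.2) hab
    · exact Or.inr (Or.inr ⟨y, ⟨hy, Ne.symm e, hay⟩, perp_sym hy hb⟩)
  rcases h with rfl | k | ⟨x, hxa, hxy⟩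
  · exact absurd (Commute.refl a) hay
  · exact absurd k hay
  obtain ⟨s, hs, k1, k2⟩ := meet (S.im_mem hy hxy) (S.im_mem hy hb)
  obtain ⟨u, hu, hua, rfl⟩ := S.around ha hy hxa hxy hay hs k1
  have hub : Commute u b := (S.im_comm hy hu hb).2 k2
  exact Or.inr (Or.inr ⟨u, ⟨hu.1, fun e => hab (e ▸ hub), hua.symm⟩,
    ⟨hu.1, fun e => hab (e ▸ hua).symm, hub.symm⟩⟩)

theorem joined_mem {a b : G} (ha : a ∈ D) (h : Joined D a b) : b ∈ D := by
  induction h with
  | refl => exact ha
  | tail _ hbc _ => exact hbc.1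

theorem joined_near {a b : G} (ha : a ∈ D) (h : Joined D a b) : Near D a b := by
  induction h with
  | refl => exact Or.inl rfl
  | tail h1 hbc ih => exact S.near_step ha (S.joined_mem ha h1) ih hbc

theorem joined_symm {a b : G} (ha : a ∈ D) (h : Joined D a b) : Joined D b a := by
  induction h with
  | refl => exact .refl
  | tail h1 hbc ih => exact Relation.ReflTransGen.head (perp_sym (S.joined_mem ha h1) hbc) ih

/-- Members apart with a common neighbour generate a dihedral group of order six. -/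
theorem braid_of_common {a b c : G} (ha : a ∈ D) (hb : b ∈ D) (hca : c ∈ perp D a) (hcb : c ∈ perp D b)
    (hnc : ¬ Commute a b) : a * b * a = b * a * b := by
  have hc := hca.1
  have hac : a ∈ perp D c := perp_sym ha hca
  have hbc : b ∈ perp D c := perp_sym hb hcb
  have hq : ¬ Commute (S.im c a) (S.im c b) := fun k => hnc ((S.im_comm hc hac hbc).2 k)
  have conjd : ∀ {a b : G}, a ∈ perp D c → b ∈ perp D c → a * b * a ∈ perp D c := fun {a b} h1 h2 => by
    refine ⟨S.conj_mem h1.1 h2.1, fun k => h2.2.1 ?_, ?_⟩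
    · have : b = a * (a * b * a) * a := by simp [mul_assoc, S.sq h1.1]; simp [← mul_assoc, S.sq h1.1]
      rw [this, k, ← h1.2.2.eq, mul_assoc, S.sq h1.1, mul_one]
    · exact (h1.2.2.mul_right h2.2.2).mul_right h1.2.2
  have himg : ∀ {d p q : G}, d ∈ D → p ∈ perp D d → q ∈ perp D d → ¬ Commute p q →
      S.im d (p * q * p) = S.im d (q * p * q) := fun {d p q} hd hp hq' hn => by
    rw [S.im_conj hd (S.mem_perp_CC hp) (S.mem_perp_CC hq'), S.im_conj hd (S.mem_perp_CC hq') (S.mem_perp_CC hp)]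
    exact Spor.ThreeTrans.braid q_class.1 (S.im_mem hd hp) (S.im_mem hd hq')
      fun k => hn ((S.im_comm hd hp hq').2 k)
  by_contra hne
  obtain ⟨r, hr, k1, k2⟩ := meet (S.im_mem hc hac) (S.im_mem hc hbc)
  obtain ⟨w, hw, rfl⟩ := S.im_over hc hr
  have hwa := (S.im_comm hc hw hac).2 k1
  have hwb := (S.im_comm hc hw hbc).2 k2
  have haw : a ∈ perp D w := ⟨ha, fun k => hnc (k ▸ hwb), hwa⟩
  have hbw : b ∈ perp D w := ⟨hb, fun k => hnc (k ▸ hwa).symm, hwb⟩
  have h1 := conjd hac hbc
  have h2 := conjd hbc hac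
  have conjw : ∀ {a b : G}, a ∈ perp D w → b ∈ perp D w → a * b * a ∈ perp D w := fun {a b} p1 p2 => by
    refine ⟨S.conj_mem p1.1 p2.1, fun k => p2.2.1 ?_, ?_⟩
    · have : b = a * (a * b * a) * a := by simp [mul_assoc, S.sq p1.1]; simp [← mul_assoc, S.sq p1.1]
      rw [this, k, ← p1.2.2.eq, mul_assoc, S.sq p1.1, mul_one]
    · exact (p1.2.2.mul_right p2.2.2).mul_right p1.2.2
  have k := (S.key hc hw.1 h1 h2 (conjw haw hbw) (conjw hbw haw) (Ne.symm hne)
    (himg hc hac hbc hnc).symm (himg hw.1 haw hbw hnc).symm).2 (Ne.symm hw.2.1)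
  have k' : Commute (a * b * a) a := (S.im_comm hc h1 hac).2 (k ▸ k1)
  refine hnc ?_
  have e := k'.eq
  rw [mul_assoc (a * b), S.sq ha, mul_one, ← mul_assoc, ← mul_assoc, S.sq ha, one_mul] at e
  exact e

theorem order_joined {a b : G} (ha : a ∈ D) (h : Joined D a b) : (a * b) ^ 2 = 1 ∨ (a * b) ^ 3 = 1 := by
  have hb := S.joined_mem ha h
  by_cases hc : Commute a b
  · left
    rw [hc.mul_pow, pow_two, pow_two, S.sq ha, S.sq hb, one_mul]
  rcases S.joined_near ha h with rfl | k | ⟨c, hca, hcb⟩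
  · exact absurd (Commute.refl a) hc
  · exact absurd k hc
  · right
    have hbr := S.braid_of_common ha hb hca hcb hc
    calc (a * b) ^ 3 = a * b * a * (b * a * b) := by simp [pow_succ, mul_assoc]
      _ = (a * b * a) * (a * b * a) := by rw [hbr]
      _ = a * b * (a * a) * b * a := by simp only [mul_assoc]
      _ = 1 := by rw [S.sq ha, mul_one, mul_assoc a b b, S.sq hb, mul_one, S.sq ha]

end Setting

end Cfsg.Agent.Fus.U62Rec
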