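import Cfsg.Agent.Lib.Fus.U62Rec.Quot

/-! The conjugates commuting with a given one, over the quadrangle. -/

set_option autoImplicit false
set_option linter.style.haveILetI false
set_option linter.constructorNameAsVariable false
set_option linter.deprecated false

namespace Cfsg.Agent.Fus.U62Rec

open Cfsg Cfsg.Agent.Spor.ThreeTrans

variable {G : Type*} [Group G]

theorem conjugates_inv {z : G} (g : G) {x : G} (hx : x ∈ conjugatesOf z) : g * x * g⁻¹ ∈ conjugatesOf z :=
  (show IsConj z x from hx).trans (_root_.isConj_iff.2 ⟨g, rfl⟩ : IsConj x (g * x * g⁻¹))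

theorem mem_CC {z u : G} : u ∈ CC z ↔ Commute u z := by
  rw [Subgroup.mem_centralizer_singleton_iff]
  rfl

theorem conj_mem_CC {z u : G} (g : G) (h : u ∈ CC (g * z * g⁻¹)) : g⁻¹ * u * g ∈ CC z := by
  refine mem_CC.2 ((commute_conj_iff g _ _).1 ?_)
  simpa [mul_assoc] using mem_CC.1 h

namespace Setting

variable {z : G} (S : Setting z)

/-- The map at a conjugate. -/
def conjHom (g : G) : ↥(CC (g * z * g⁻¹)) →* Q4 where
  toFun u := S.π ⟨g⁻¹ * (u : G) * g, conj_mem_CC g u.2⟩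
  map_one' := by
    rw [show (⟨g⁻¹ * ((1 : ↥(CC (g * z * g⁻¹))) : G) * g, conj_mem_CC g (1 : ↥(CC (g * z * g⁻¹))).2⟩ : ↥(CC z)) = 1
      from Subtype.ext (by simp), map_one]
  map_mul' a b := by
    rw [← map_mul]
    congr 1
    exact Subtype.ext (by simp [mul_assoc])

theorem conjHom_apply (g : G) (u : ↥(CC z)) (h : g * (u : G) * g⁻¹ ∈ CC (g * z * g⁻¹)) :
    S.conjHom g ⟨_, h⟩ = S.π u := by
  show S.π _ = S.π u
  congr 1
  exact Subtype.ext (by simp [mul_assoc])

theorem up_mem (g : G) (u : ↥(CC z)) : g * (u : G) * g⁻¹ ∈ CC (g * z * g⁻¹) :=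
  mem_CC.2 ((commute_conj_iff g _ _).2 (mem_CC.1 u.2))

theorem down_conj (g : G) (u : ↥(CC (g * z * g⁻¹))) : ∃ v : ↥(CC z), g * (v : G) * g⁻¹ = u :=
  ⟨⟨_, conj_mem_CC g u.2⟩, by simp [mul_assoc]⟩

omit S in
theorem isConj_conj (g : G) {v : G} : IsConj (g * z * g⁻¹) (g * v * g⁻¹) ↔ IsConj z v := by
  have k : ∀ w : G, IsConj w (g * w * g⁻¹) := fun w => _root_.isConj_iff.2 ⟨g, rfl⟩
  exact ⟨fun h => (k z).trans (h.trans (k v).symm), fun h => ((k z).symm.trans h).trans (k v)⟩

/-- The setting at a conjugate. -/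
noncomputable def conj (g : G) : Setting (g * z * g⁻¹) where
  π := S.conjHom g
  two := by
    rw [show g * z * g⁻¹ = (MulAut.conj g) z from rfl, MulEquiv.orderOf_eq]
    exact S.two
  surj q := by
    obtain ⟨u, rfl⟩ := S.surj q
    exact ⟨⟨_, up_mem g u⟩, S.conjHom_apply g u _⟩
  card_ker := by
    rw [← S.card_ker]
    refine Nat.card_congr ⟨fun u => ⟨⟨_, conj_mem_CC g u.1.2⟩, u.2⟩,
      fun u => ⟨⟨_, up_mem g u.1⟩, ?_⟩, fun u => ?_, fun u => ?_⟩
    · exact (S.conjHom_apply g u.1 _).trans u.2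
    · exact Subtype.ext (Subtype.ext (by simp [mul_assoc]))
    · exact Subtype.ext (Subtype.ext (by simp [mul_assoc]))
  ker_centre u hu hc := by
    obtain ⟨v, hv⟩ := down_conj g u
    have hv' : v ∈ S.π.ker := by
      rw [MonoidHom.mem_ker, ← S.conjHom_apply g v (hv ▸ u.2)]
      rw [show (⟨g * (v : G) * g⁻¹, hv ▸ u.2⟩ : ↥(CC (g * z * g⁻¹))) = u from Subtype.ext hv]
      exact hu
    rcases S.ker_centre v hv' fun w hw => by
      have := hc ⟨_, up_mem g w⟩ ((S.conjHom_apply g w _).trans hw)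
      have k := congrArg Subtype.val this.eq
      simp only [Subgroup.coe_mul, ← hv] at k
      exact Subtype.ext ((commute_conj_iff g (v : G) (w : G)).1 k).eq with k | k
    · left; rw [← hv, k]; simp
    · right; rw [← hv, k]
  mem u hu hne := by
    obtain ⟨v, hv⟩ := down_conj g u
    rw [show u = ⟨g * (v : G) * g⁻¹, up_mem g v⟩ from Subtype.ext hv.symm, S.conjHom_apply g v]
    exact S.mem v ((isConj_conj g).1 (hv ▸ hu)) fun e => hne (by rw [← hv, e])
  fibre e he := by
    refine ((Set.ncard_congr (fun u _ => (⟨_, up_mem g u⟩ : ↥(CC (g * z * g⁻¹)))) ?_ ?_ ?_).symm).trans (S.fibre e he)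
    · intro u hu
      exact ⟨(isConj_conj g).2 hu.1, (S.conjHom_apply g u _).trans hu.2⟩
    · intro a b _ _ k
      exact Subtype.ext (by simpa using congrArg Subtype.val k)
    · intro u hu
      obtain ⟨v, hv⟩ := down_conj g u
      refine ⟨v, ⟨(isConj_conj g).1 (hv ▸ hu.1), ?_⟩, Subtype.ext hv⟩
      rw [← S.conjHom_apply g v (up_mem g v),
        show (⟨g * (v : G) * g⁻¹, up_mem g v⟩ : ↥(CC (g * z * g⁻¹))) = u from Subtype.ext hv]
      exact hu.2
  comm a b ha hb na nb h := by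
    obtain ⟨a', ha'⟩ := down_conj g a
    obtain ⟨b', hb'⟩ := down_conj g b
    have ea : S.conjHom g a = S.π a' := by
      rw [show a = ⟨g * (a' : G) * g⁻¹, up_mem g a'⟩ from Subtype.ext ha'.symm, S.conjHom_apply g a']
    have eb : S.conjHom g b = S.π b' := by
      rw [show b = ⟨g * (b' : G) * g⁻¹, up_mem g b'⟩ from Subtype.ext hb'.symm, S.conjHom_apply g b']
    rw [ea, eb] at h
    have := S.comm a' b' ((isConj_conj g).1 (ha' ▸ ha)) ((isConj_conj g).1 (hb' ▸ hb))
      (fun e => na (by rw [← ha', e])) (fun e => nb (by rw [← hb', e])) h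
    refine Subtype.ext ?_
    simp only [Subgroup.coe_mul]
    rw [← ha', ← hb']
    exact ((commute_conj_iff g _ _).2 (show Commute (a' : G) (b' : G) from congrArg Subtype.val this.eq)).eq

/-- The setting at any member of the class. -/
noncomputable def «at» {x : G} (hx : x ∈ conjugatesOf z) : Setting x :=
  cast (congrArg (fun y => Setting y) (_root_.isConj_iff.1 (show IsConj z x from hx)).choose_spec) (S.conj _)

/-- The image of an element of the centraliser. -/
noncomputable def img (u : G) : Q4 :=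
  @dite Q4 (u ∈ CC z) (_root_.Classical.propDecidable _) (fun h => S.π ⟨u, h⟩) fun _ => 1

theorem img_eq {u : G} (h : u ∈ CC z) : S.img u = S.π ⟨u, h⟩ := by
  classical
  exact dif_pos h

theorem img_mul {u v : G} (hu : u ∈ CC z) (hv : v ∈ CC z) : S.img (u * v) = S.img u * S.img v := by
  rw [S.img_eq hu, S.img_eq hv, S.img_eq (mul_mem hu hv), ← map_mul]
  rfl

theorem img_one : S.img 1 = 1 := (S.img_eq (one_mem _)).trans (map_one S.π)

omit S in
theorem perp_CC {u : G} (hu : u ∈ perp (conjugatesOf z) z) : u ∈ CC z := mem_CC.2 hu.2.2.symm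

theorem img_mem {u : G} (hu : u ∈ perp (conjugatesOf z) z) : S.img u ∈ E4 := by
  rw [S.img_eq (perp_CC hu)]
  exact S.mem _ hu.1 hu.2.1

include S in
theorem sq_mem {x : G} (hx : x ∈ conjugatesOf z) : x * x = 1 := by
  obtain ⟨g, rfl⟩ := _root_.isConj_iff.1 (show IsConj z x from hx)
  have h := pow_orderOf_eq_one z
  rw [S.two, pow_two] at h
  rw [show g * z * g⁻¹ * (g * z * g⁻¹) = g * (z * z) * g⁻¹ by simp [mul_assoc], h, mul_one, mul_inv_cancel]

theorem img_self : S.img z = 1 := by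
  refine faithful fun e he => ?_
  obtain ⟨u, hu⟩ := S.surj e
  rw [← hu, S.img_eq (mem_CC.2 (Commute.refl z))]
  refine (show Commute _ u from ?_).map S.π
  exact Subtype.ext (mem_CC.1 u.2).symm.eq

theorem ne_self {u : G} (he : S.img u ∈ E4) : u ≠ z := fun e => ne_one he (by rw [e, S.img_self])

/-- Four members over each transvection. -/
theorem fibre' {e : Q4} (he : e ∈ E4) : {u | u ∈ perp (conjugatesOf z) z ∧ S.img u = e}.ncard = 4 := by
  rw [← S.fibre e he, ← Set.ncard_image_of_injective _ (Subgroup.subtype_injective (CC z))]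
  congr 1
  ext u
  constructor
  · rintro ⟨hu, hi⟩
    exact ⟨⟨u, perp_CC hu⟩, ⟨hu.1, (S.img_eq _).symm.trans hi⟩, rfl⟩
  · rintro ⟨v, ⟨hv, hi⟩, rfl⟩
    have hi' : S.img (v : G) = e := (S.img_eq v.2).trans hi
    exact ⟨⟨hv, S.ne_self (hi' ▸ he), (mem_CC.1 v.2).symm⟩, hi'⟩

theorem exists_over {e : Q4} (he : e ∈ E4) : ∃ u ∈ perp (conjugatesOf z) z, S.img u = e := by
  obtain ⟨u, hu⟩ := Set.nonempty_of_ncard_ne_zero (s := {u | u ∈ perp (conjugatesOf z) z ∧ S.img u = e})
    (by rw [S.fibre' he]; norm_num)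
  exact ⟨u, hu.1, hu.2⟩

/-- A second member over the same transvection. -/
theorem exists_mate {u : G} (hu : u ∈ perp (conjugatesOf z) z) :
    ∃ v ∈ perp (conjugatesOf z) z, S.img v = S.img u ∧ v ≠ u := by
  obtain ⟨v, hv, hne⟩ := Set.exists_ne_of_one_lt_ncard
    (s := {v | v ∈ perp (conjugatesOf z) z ∧ S.img v = S.img u}) (by rw [S.fibre' (S.img_mem hu)]; norm_num) u
  exact ⟨v, hv.1, hv.2, hne⟩

theorem comm_iff {u v : G} (hu : u ∈ perp (conjugatesOf z) z) (hv : v ∈ perp (conjugatesOf z) z) :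
    Commute u v ↔ Commute (S.img u) (S.img v) := by
  rw [S.img_eq (perp_CC hu), S.img_eq (perp_CC hv)]
  refine ⟨fun h => (show Commute (⟨u, perp_CC hu⟩ : ↥(CC z)) ⟨v, perp_CC hv⟩ from Subtype.ext h.eq).map S.π,
    fun h => ?_⟩
  exact congrArg Subtype.val (S.comm ⟨u, perp_CC hu⟩ ⟨v, perp_CC hv⟩ hu.1 hv.1 hu.2.1 hv.2.1 h).eq

theorem comm_of_eq {u v : G} (hu : u ∈ perp (conjugatesOf z) z) (hv : v ∈ perp (conjugatesOf z) z)
    (h : S.img u = S.img v) : Commute u v := (S.comm_iff hu hv).2 (h ▸ Commute.refl _)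

theorem img_conj {u v : G} (hu : u ∈ CC z) (hv : v ∈ CC z) :
    S.img (u * v * u) = S.img u * S.img v * S.img u := by
  rw [S.img_mul (mul_mem hu hv) hu, S.img_mul hu hv]

/-- Counting members of `perp z` by their images. -/
theorem card_over [Finite G] (P : Q4 → Prop) :
    {u | u ∈ perp (conjugatesOf z) z ∧ P (S.img u)}.ncard = 4 * {e | e ∈ E4 ∧ P e}.ncard := by
  classical
  haveI : Fintype G := Fintype.ofFinite G
  rw [Set.ncard_eq_toFinset_card', Set.ncard_eq_toFinset_card', mul_comm]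
  refine (Finset.card_eq_sum_card_fiberwise (f := fun u => S.img u) fun u hu => ?_).trans
    (Finset.sum_const_nat (m := 4) fun e he => ?_)
  · simp only [Set.coe_toFinset, Set.mem_setOf_eq] at hu ⊢
    exact ⟨S.img_mem hu.1, hu.2⟩
  · simp only [Set.mem_toFinset, Set.mem_setOf_eq] at he
    refine Eq.trans ?_ (S.fibre' he.1)
    rw [Set.ncard_eq_toFinset_card']
    congr 1
    ext u
    simp only [Finset.mem_filter, Set.mem_toFinset, Set.mem_setOf_eq]
    exact ⟨fun h => ⟨h.1.1, h.2⟩, fun h => ⟨⟨h.1, h.2 ▸ he.2⟩, h.2⟩⟩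

include S in
theorem card_perp [Finite G] : (perp (conjugatesOf z) z).ncard = 180 := by
  have h := S.card_over fun _ => True
  simp only [and_true, Set.setOf_mem_eq] at h
  rw [h, ← show {s | s ∈ E4}.ncard = E4.ncard from rfl, card_E4]

end Setting

theorem conjugatesOf_eq {z x : G} (hx : x ∈ conjugatesOf z) : conjugatesOf x = conjugatesOf z :=
  (show IsConj z x from hx).conjugatesOf_eq.symm

end Cfsg.Agent.Fus.U62Rec
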