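import Cfsg.Agent.Lib.Fus.U62Rec.Count
import Mathlib.GroupTheory.Perm.Cycle.Type

/-! Commuting pairs of members: what centralises a pair and is normalised by the members commuting with
both is small; four such members have product the first of the pair. -/

set_option autoImplicit false
set_option maxHeartbeats 1000000
set_option linter.style.haveILetI false
set_option linter.unusedSectionVars false
set_option linter.deprecated false

namespace Cfsg.Agent.Fus.U62Rec

open Cfsg Cfsg.Agent.Spor.ThreeTrans Cfsg.Agent.Block.FischerTypes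

theorem conj_eq_of_commute {H : Type*} [Group H] {a b : H} (h : Commute a b) : a * b * a⁻¹ = b := by
  rw [h.eq, mul_inv_cancel_right]

variable {G : Type*} [Group G] [Finite G] {z : G}

local notation "D" => conjugatesOf z

/-- The members commuting with both. -/
def both (z x y : G) : Set G := {u | u ∈ perp (conjugatesOf z) x ∧ u ∈ perp (conjugatesOf z) y}

namespace Setting

variable (S : Setting z)
include S

theorem im_mul {x u v : G} (hx : x ∈ D) (hu : u ∈ CC x) (hv : v ∈ CC x) :
    S.im x (u * v) = S.im x u * S.im x v := by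
  rw [S.im_eq hx]
  exact (S.at hx).img_mul hu hv

theorem im_one {x : G} (hx : x ∈ D) : S.im x 1 = 1 := by
  rw [S.im_eq hx]
  exact (S.at hx).img_one

theorem im_inv {x u : G} (hx : x ∈ D) (hu : u ∈ CC x) : S.im x u⁻¹ = (S.im x u)⁻¹ :=
  eq_inv_of_mul_eq_one_left (by rw [← S.im_mul hx (inv_mem hu) hu, inv_mul_cancel, S.im_one hx])

theorem im_self {x : G} (hx : x ∈ D) : S.im x x = 1 := by
  rw [S.im_eq hx]
  exact (S.at hx).img_self

theorem ker_pow {x n : G} (hx : x ∈ D) (hn : n ∈ CC x) (h : S.im x n = 1) : n ^ 512 = 1 := by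
  rw [S.im_eq hx, (S.at hx).img_eq hn] at h
  have k : (⟨⟨n, hn⟩, h⟩ : ↥(S.at hx).π.ker) ^ 512 = 1 := by
    rw [← (S.at hx).card_ker]; exact pow_card_eq_one'
  simpa using congrArg (fun w : ↥(S.at hx).π.ker => ((w : ↥(CC x)) : G)) k

/-- A conjugate inside the group of the component lies in the component. -/
theorem mem_comp {x : G} (hx : x ∈ D) (hxG : x ∈ G0 z) : x ∈ comp z := by
  classical
  haveI : Fact (Nat.Prime 2) := ⟨Nat.prime_two⟩
  haveI : Fintype ↥(comp z) := Fintype.ofFinite _
  let σ : Equiv.Perm ↥(comp z) :=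
    { toFun := fun e => ⟨x * (e : G) * x⁻¹, S.comp_conj hxG e.2⟩
      invFun := fun e => ⟨x * (e : G) * x⁻¹, S.comp_conj hxG e.2⟩
      left_inv := fun e => Subtype.ext (by
        show x * (x * (e : G) * x⁻¹) * x⁻¹ = e
        rw [S.inv hx]; simp only [← mul_assoc, S.sq hx, one_mul]; rw [mul_assoc, S.sq hx, mul_one])
      right_inv := fun e => Subtype.ext (by
        show x * (x * (e : G) * x⁻¹) * x⁻¹ = e
        rw [S.inv hx]; simp only [← mul_assoc, S.sq hx, one_mul]; rw [mul_assoc, S.sq hx, mul_one]) }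
  have hσ : σ ^ 2 ^ 1 = 1 := by
    rw [pow_one, pow_two]
    exact Equiv.ext fun e => σ.left_inv e
  obtain ⟨e, he⟩ := Equiv.Perm.exists_fixed_point_of_prime (p := 2) (n := 1)
    (by rw [← Nat.card_eq_fintype_card, Nat.card_coe_set_eq, S.comp_card]; decide) hσ
  by_cases k : x = (e : G)
  · exact k ▸ e.2
  · exact comp_perp e.2 ⟨hx, k, (mul_inv_eq_iff_eq_mul.1 (congrArg Subtype.val he)).symm⟩

/-- The stabiliser of the component is its group. -/
theorem stab {g x : G} (hx : x ∈ comp z) (hgx : g * x * g⁻¹ ∈ comp z) : g ∈ G0 z := by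
  obtain ⟨a, ha, e⟩ := S.comp_transitive hx
  obtain ⟨b, hb, e'⟩ := S.comp_transitive hgx
  have hc : b⁻¹ * (g * a) ∈ CC z := by
    refine Subgroup.mem_centralizer_singleton_iff.2 (mul_inv_eq_iff_eq_mul.1 ?_)
    calc b⁻¹ * (g * a) * z * (b⁻¹ * (g * a))⁻¹ = b⁻¹ * (g * (a * z * a⁻¹) * g⁻¹) * b := by simp [mul_assoc]
      _ = b⁻¹ * (b * z * b⁻¹) * b := by rw [e, e']
      _ = z := by simp [mul_assoc]
  have := mul_mem (mul_mem hb (S.centralizer_le z_comp hc)) (inv_mem ha)
  simpa [mul_assoc] using this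

/-- An element fixing the product of a pair in the group of the component fixes or exchanges the pair. -/
theorem pair_moved {x y g : G} (hx : x ∈ comp z) (hy : y ∈ perp D x) (hg : g ∈ G0 z) (hgj : Commute g (x * y)) :
    g * x * g⁻¹ = x ∨ g * x * g⁻¹ = y :=
  S.pair_unique hx (comp_perp hx hy) (S.comp_conj hg hx) (S.comp_conj hg (comp_perp hx hy)) (Ne.symm hy.2.1)
    (fun e => hy.2.1 (mul_left_cancel (mul_right_cancel e)).symm) hy.2.2 ((commute_conj_iff g _ _).2 hy.2.2)
    (by rw [show g * x * g⁻¹ * (g * y * g⁻¹) = g * (x * y) * g⁻¹ by simp [mul_assoc], conj_eq_of_commute hgj])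

/-- A member fixing the product of a pair fixes the pair. -/
theorem pair_fixed {x y u : G} (hx : x ∈ comp z) (hy : y ∈ perp D x) (hu : u ∈ comp z)
    (huj : Commute u (x * y)) : Commute u x ∧ Commute u y := by
  have sx := S.sq (S.comp_sub hx)
  have su := S.sq (S.comp_sub hu)
  have hux : Commute u x := by
    rcases S.pair_moved hx hy (comp_le hu) huj with k | k
    · exact mul_inv_eq_iff_eq_mul.1 k
    · rcases S.braid_or_commute hu hx with c | c
      · exact c
      · exfalso
        rw [S.inv (S.comp_sub hu)] at k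
        rw [k] at c
        have e : u = y := by
          calc u = x * (x * u * x) * x := by simp only [← mul_assoc, sx, one_mul]; simp [mul_assoc, sx]
            _ = x * y * x := by rw [← c]
            _ = y := by rw [hy.2.2.eq, mul_assoc, sx, mul_one]
        subst e
        have k' : u * x * u = x := by rw [hy.2.2.symm.eq, mul_assoc, su, mul_one]
        exact hy.2.1 (k.symm.trans k')
  refine ⟨hux, ?_⟩
  have := hux.mul_right huj
  rwa [← mul_assoc, sx, one_mul] at this

/-- A product of three commuting members is no member. -/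
theorem triple_ne {x y w t : G} (hx : x ∈ comp z) (hy : y ∈ comp z) (hw : w ∈ comp z) (ht : t ∈ comp z)
    (hxy : x ≠ y) (hxw : x ≠ w) (hyw : y ≠ w) (kxy : Commute x y) (kxw : Commute x w) (kyw : Commute y w) :
    x * y * w ≠ t := by
  intro e
  have sw := S.sq (S.comp_sub hw)
  have sx := S.sq (S.comp_sub hx)
  have sy := S.sq (S.comp_sub hy)
  have htw : x * y = t * w := by rw [← e, mul_assoc, sw, mul_one]
  have kt : Commute t w := e ▸ (kxw.mul_left kyw).mul_left (Commute.refl w)
  have ntw : t ≠ w := fun k => hxy (by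
    rw [k, sw] at htw
    rw [eq_inv_of_mul_eq_one_left htw, S.inv (S.comp_sub hy)])
  rcases S.pair_unique hx hy ht hw hxy ntw kxy kt htw with k | k
  · rw [k] at e
    rw [mul_assoc] at e
    exact hyw (by rw [eq_inv_of_mul_eq_one_left (mul_eq_left.1 e), S.inv (S.comp_sub hw)])
  · rw [k, kxy.eq, mul_assoc] at e
    exact hxw (by rw [eq_inv_of_mul_eq_one_left (mul_eq_left.1 e), S.inv (S.comp_sub hw)])

theorem both_comp {x y u : G} (hx : x ∈ comp z) (hu : u ∈ both z x y) : u ∈ comp z := comp_perp hx hu.1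

/-- Four members commuting with `y` have product `x`. -/
theorem four_members {x y : G} (hx : x ∈ comp z) (hy : y ∈ perp D x) :
    ∃ l : List G, l.length = 4 ∧ (∀ u ∈ l, u ∈ both z x y) ∧ l.prod = x := by
  have hxD := S.comp_sub hx
  obtain ⟨e, he, hne, hec⟩ := Set.nonempty_of_ncard_ne_zero
    (s := {s | s ∈ E4 ∧ (s ≠ S.im x y ∧ Commute s (S.im x y))}) (by rw [nb_card (S.im_mem hxD hy)]; norm_num)
  obtain ⟨a, b, c, d, -, hm, hprod⟩ := (S.at hxD).line_prod he
  rw [conjugatesOf_eq hxD, ← S.im_eq hxD] at hm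
  refine ⟨[a, b, c, d], rfl, fun u hu => ?_, by rw [← hprod]; simp [mul_assoc]⟩
  obtain ⟨hu1, hu2⟩ := (hm u).2 hu
  refine ⟨hu1, hu1.1, fun k => hne (by rw [← hu2, k]), ?_⟩
  exact ((S.im_comm hxD hu1 hy).2 (hu2 ▸ hec)).symm

/-- A subgroup centralising a pair, normalised by the members commuting with both and nearly of odd order,
is trivial modulo the pair. -/
theorem pair_core {x y : G} (hx : x ∈ comp z) (hy : y ∈ perp D x) (T : Subgroup G)
    (hT : ∀ n ∈ T, Commute n x ∧ Commute n y)
    (hnorm : ∀ u ∈ both z x y, ∀ n ∈ T, u * n * u⁻¹ ∈ T)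
    (htwo : ∀ n ∈ T, ∀ k : ℕ, n ^ 2 ^ k = 1 → n = 1 ∨ n = x * y) :
    ∀ n ∈ T, n = 1 ∨ n = x * y := by
  have hxD := S.comp_sub hx
  have hyc := comp_perp hx hy
  have small : ∀ {a b : G}, a ∈ both z x y → b ∈ both z x y → Commute a b → a * b ∈ T → a = b := by
    intro a b ha hb hab hmem
    by_contra hne
    have sa := S.sq ha.1.1
    have sb := S.sq hb.1.1
    rcases htwo _ hmem 1 (by rw [pow_one, hab.mul_pow, pow_two, pow_two, sa, sb, one_mul]) with k | k
    · exact hne (by rw [eq_inv_of_mul_eq_one_left k, S.inv hb.1.1])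
    · rcases S.pair_unique hx hyc (S.both_comp hx ha) (S.both_comp hx hb) (Ne.symm hy.2.1) hne hy.2.2 hab k.symm
        with e | e
      · exact ha.1.2.1 e
      · exact ha.2.2.1 e
  -- no two members apart with product in `T`
  have noapart : ∀ {u v : G}, u ∈ both z x y → v ∈ both z x y → ¬ Commute u v → u * v ∈ T → False := by
    intro u v hu hv huv hmem
    have huy : Commute (S.im x u) (S.im x y) := (S.im_comm hxD hu.1 hy).1 hu.2.2.2.symm
    have hvy : Commute (S.im x v) (S.im x y) := (S.im_comm hxD hv.1 hy).1 hv.2.2.2.symm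
    have nuq : S.im x u ≠ S.im x y := fun e =>
      huv ((S.im_comm hxD hu.1 hv.1).2 (e ▸ hvy.symm))
    obtain ⟨u2, hu2, hu2e, hne⟩ := S.im_mate hxD hu.1
    have hu2b : u2 ∈ both z x y := ⟨hu2, hu2.1, fun e => nuq (by rw [← hu2e, e]),
      ((S.im_comm hxD hu2 hy).2 (hu2e ▸ huy)).symm⟩
    have hu2v : ¬ Commute u2 v := fun k => huv ((S.im_comm hxD hu.1 hv.1).2 (hu2e ▸ (S.im_comm hxD hu2 hv.1).1 k))
    have huu2 : Commute u u2 := S.comm_of_im hxD hu.1 hu2 hu2e.symm
    have su := S.sq hu.1.1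
    have su2 := S.sq hu2.1
    have sv := S.sq hv.1.1
    have third : ∀ {a : G}, a ∈ both z x y → ¬ Commute a v → a * v * a ∈ both z x y := by
      intro a ha hav
      have h1 := perp_map (z := z) a hv.1
      have h2 := perp_map (z := z) a hv.2
      rw [conj_eq_of_commute ha.1.2.2.symm, S.inv ha.1.1] at h1
      rw [conj_eq_of_commute ha.2.2.2.symm, S.inv ha.1.1] at h2
      exact ⟨h1, h2⟩
    have e1 : u * (u2 * v * u2) ∈ T := by
      have := hnorm u2 hu2b _ hmem
      rwa [S.inv hu2.1, show u2 * (u * v) * u2 = u * (u2 * v * u2) by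
        rw [← mul_assoc u2 u, ← huu2.eq]; simp only [mul_assoc]] at this
    have e2 : u * v * u * (u2 * v * u2) ∈ T := by
      have := mul_mem hmem e1
      simpa [mul_assoc] using this
    have hw := third hu huv
    have hw2 := third hu2b hu2v
    have hcw : Commute (u * v * u) (u2 * v * u2) := by
      refine S.comm_of_im hxD hw.1 hw2.1 ?_
      rw [S.im_conj hxD (S.mem_perp_CC hu.1) (S.mem_perp_CC hv.1),
        S.im_conj hxD (S.mem_perp_CC hu2) (S.mem_perp_CC hv.1), hu2e]
    have e := small hw hw2 hcw e2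
    rw [(S.braid_or_commute (S.both_comp hx hu) (S.both_comp hx hv)).resolve_left huv,
      (S.braid_or_commute (S.both_comp hx hu2b) (S.both_comp hx hv)).resolve_left hu2v] at e
    exact hne (mul_left_cancel (mul_right_cancel e)).symm
  -- members of `T` fix the common members
  have hfix : ∀ n ∈ T, ∀ u ∈ both z x y, Commute n u := by
    intro n hn u hu
    have h1 := perp_map (z := z) n hu.1
    have h2 := perp_map (z := z) n hu.2
    rw [conj_eq_of_commute (hT n hn).1] at h1
    rw [conj_eq_of_commute (hT n hn).2] at h2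
    have hb : n * u * n⁻¹ ∈ both z x y := ⟨h1, h2⟩
    have hmem : u * (n * u * n⁻¹) ∈ T := by
      have := mul_mem (hnorm u hu n hn) (inv_mem hn)
      rwa [S.inv hu.1.1, show u * n * u * n⁻¹ = u * (n * u * n⁻¹) by simp [mul_assoc]] at this
    by_cases hc : Commute u (n * u * n⁻¹)
    · exact mul_inv_eq_iff_eq_mul.1 (small hu hb hc hmem).symm
    · exact (noapart hu hb hc hmem).elim
  intro n hn
  have hnx : n ∈ CC x := mem_CC.2 (hT n hn).1
  obtain ⟨g, hg⟩ : ∃ g, g = S.im x n := ⟨_, rfl⟩
  have hgc : ∀ v ∈ perp D x, Commute n v → Commute g (S.im x v) := fun v hv k => by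
    have := congrArg (S.im x) k.eq
    rwa [S.im_mul hxD hnx (S.mem_perp_CC hv), S.im_mul hxD (S.mem_perp_CC hv) hnx, ← hg] at this
  obtain ⟨q, hq⟩ : ∃ q, q = S.im x y := ⟨_, rfl⟩
  have hqE : q ∈ E4 := hq ▸ S.im_mem hxD hy
  have hnb : ∀ e ∈ E4, Commute e q → Commute g e := by
    intro e he heq
    by_cases k : e = q
    · rw [k, hq]; exact hgc y hy (hT n hn).2
    · obtain ⟨v, hv, rfl⟩ := S.im_over hxD he
      refine hgc v hv (hfix n hn v ⟨hv, hv.1, fun k' => k (by rw [hq, k']), ?_⟩)
      exact ((S.im_comm hxD hv hy).2 (hq ▸ heq)).symm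
  have hgq : Commute g q := hnb q hqE (Commute.refl q)
  have conjE : ∀ {a b : Q4}, b ∈ E4 → a * b * a⁻¹ ∈ E4 := fun {a b} hb =>
    Spor.ThreeTrans.conj_mem q_class a hb
  have img_apart : ∀ r ∈ E4, ¬ Commute q r → g * r * g⁻¹ = r ∨ g * r * g⁻¹ = q * r * q := by
    intro r hr hnc
    refine span hqE hr (conjE hr) hnc (fun k => hnc ?_) fun s hs hsq hsr => ?_
    · rw [← conj_eq_of_commute hgq, commute_conj_iff] at k
      exact k
    · rw [← conj_eq_of_commute (hnb s hs hsq), commute_conj_iff]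
      exact hsr
  have hg2 : g * g = 1 := by
    refine faithful fun r hr => ?_
    by_cases hnc : Commute q r
    · exact (hnb r hr hnc.symm).mul_left (hnb r hr hnc.symm)
    · refine mul_inv_eq_iff_eq_mul.1 ?_
      rw [show g * g * r * (g * g)⁻¹ = g * (g * r * g⁻¹) * g⁻¹ by simp [mul_assoc]]
      rcases img_apart r hr hnc with k | k
      · rw [k, k]
      · rw [k, show g * (q * r * q) * g⁻¹ = (g * q * g⁻¹) * (g * r * g⁻¹) * (g * q * g⁻¹) by simp [mul_assoc],
          conj_eq_of_commute hgq, k]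
        simp only [← mul_assoc, U62Rec.sq hqE, one_mul]
        rw [mul_assoc, U62Rec.sq hqE, mul_one]
  have hnn : S.im x (n * n) = 1 := by rw [S.im_mul hxD hnx hnx, ← hg, hg2]
  have h512 := S.ker_pow hxD (mul_mem hnx hnx) hnn
  rcases htwo _ (mul_mem hn hn) 9 (by norm_num; exact h512) with k | k
  · exact htwo n hn 1 (by rw [pow_one, pow_two, k])
  · exfalso
    rw [k, S.im_mul hxD (mem_CC.2 (Commute.refl x)) (S.mem_perp_CC hy), S.im_self hxD, one_mul] at hnn
    exact U62Rec.ne_one (S.im_mem hxD hy) hnn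

end Setting

end Cfsg.Agent.Fus.U62Rec
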