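import Cfsg.Agent.Lib.Fus.U62Rec.Pair
import Cfsg.Agent.Lib.Invol.ZStar
import Mathlib.GroupTheory.FixedPointFree

/-! The centraliser of a commuting pair of members lies in the group of the component. -/

set_option autoImplicit false
set_option maxHeartbeats 1000000
set_option linter.style.haveILetI false
set_option linter.unusedSectionVars false
set_option linter.deprecated false

namespace Cfsg.Agent.Fus.U62Rec

open Cfsg Cfsg.Agent.Spor.ThreeTrans

variable {G : Type*} [Group G] [Finite G] {z : G}

local notation "D" => conjugatesOf z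

namespace Setting

variable (S : Setting z)
include S

/-- The centraliser of a pair lies in the group of the component. -/
theorem pair_cent {x y : G} (hx : x ∈ comp z) (hy : y ∈ perp D x) : CC (x * y) ≤ G0 z := by
  classical
  have hxD := S.comp_sub hx
  have hyc := comp_perp hx hy
  have sqx := S.sq hxD
  have sqy := S.sq hy.1
  obtain ⟨j, hj⟩ : ∃ j, j = x * y := ⟨_, rfl⟩
  rw [← hj]
  have hxy : Commute x y := hy.2.2
  have hjx : Commute j x := hj ▸ (Commute.refl x).mul_left hxy.symm
  have hjy : Commute j y := hj ▸ hxy.mul_left (Commute.refl y)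
  have hjj : j * j = 1 := by rw [← pow_two, hj, hxy.mul_pow, pow_two, pow_two, sqx, sqy, one_mul]
  have hxj : x * j = y := by rw [hj, ← mul_assoc, sqx, one_mul]
  have hj1 : j ≠ 1 := fun e => hy.2.1 (by rw [← hxj, e, mul_one])
  have hjG : j ∈ G0 z := hj ▸ mul_mem (comp_le hx) (comp_le hyc)
  have zj : ∀ g ∈ Subgroup.zpowers j, g = 1 ∨ g = j := by
    rintro g ⟨m, rfl⟩
    rcases Int.even_or_odd' m with ⟨i, rfl | rfl⟩
    · left; show j ^ (2 * i) = 1; rw [zpow_mul, zpow_ofNat, pow_two, hjj, one_zpow]
    · right; show j ^ (2 * i + 1) = j; rw [zpow_add, zpow_mul, zpow_ofNat, pow_two, hjj, one_zpow, one_mul, zpow_one]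
  haveI hN : ((Subgroup.zpowers j).subgroupOf (CC j)).Normal := ⟨fun n hn g => by
    rw [Subgroup.mem_subgroupOf] at hn ⊢
    have hc : Commute (g : G) (n : G) := by
      rcases zj _ hn with e | e <;> rw [e]
      exacts [Commute.one_right _, Subgroup.mem_centralizer_singleton_iff.1 g.2]
    rw [Subgroup.coe_mul, Subgroup.coe_mul, Subgroup.coe_inv, conj_eq_of_commute hc]
    exact hn⟩
  let q := QuotientGroup.mk' ((Subgroup.zpowers j).subgroupOf (CC j))
  have qeq : ∀ {a b : ↥(CC j)}, q a = q b → (a : G) = b ∨ (a : G) = (b : G) * j := by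
    intro a b e
    have h := QuotientGroup.eq.1 (show (QuotientGroup.mk b : ↥(CC j) ⧸ _) = QuotientGroup.mk a from e.symm)
    rw [Subgroup.mem_subgroupOf] at h
    simp only [Subgroup.coe_mul, Subgroup.coe_inv] at h
    rcases zj _ h with k | k
    · exact Or.inl (inv_mul_eq_one.1 k).symm
    · exact Or.inr (inv_mul_eq_iff_eq_mul.1 k)
  have qj : ∀ {a b : ↥(CC j)}, (a : G) = (b : G) * j → q a = q b := by
    intro a b e
    refine (QuotientGroup.eq.2 ?_).symm
    rw [Subgroup.mem_subgroupOf]
    simp only [Subgroup.coe_mul, Subgroup.coe_inv, e, inv_mul_cancel_left]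
    exact Subgroup.mem_zpowers j
  let xM : ↥(CC j) := ⟨x, Subgroup.mem_centralizer_singleton_iff.2 hjx.symm.eq⟩
  -- the first member is isolated modulo the pair
  have hiso : IsIsolatedInvolution (q xM) := by
    refine ⟨orderOf_eq_prime ?_ ?_, ?_⟩
    · rw [pow_two, ← map_mul, show xM * xM = 1 from Subtype.ext sqx, map_one]
    · intro e
      rcases qeq (e.trans (map_one q).symm) with k | k
      · have := (fun w hw => S.two_mem (x := w) hw) x hxD
        rw [show x = 1 from k, orderOf_one] at this
        norm_num at this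
      · rw [show ((1 : ↥(CC j)) : G) * j = j from one_mul j] at k
        have h := (fun w hw => S.two_mem (x := w) hw) y hy.1
        rw [← hxj, ← (show x = j from k), sqx, orderOf_one] at h
        norm_num at h
    · intro g hg
      obtain ⟨g, rfl⟩ := QuotientGroup.mk'_surjective _ g
      rw [← map_inv, ← map_mul, ← map_mul] at hg ⊢
      have hgj : Commute (g : G) j := Subgroup.mem_centralizer_singleton_iff.1 g.2
      obtain ⟨x', hx'⟩ : ∃ x', x' = (g : G) * x * (g : G)⁻¹ := ⟨_, rfl⟩
      have hx'D : x' ∈ D := hx' ▸ conjugates_inv _ hxD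
      have sqx' := S.sq hx'D
      have hy' : x' * j = (g : G) * y * (g : G)⁻¹ := by
        have e := conj_eq_of_commute hgj
        calc x' * j = (g : G) * x * (g : G)⁻¹ * ((g : G) * j * (g : G)⁻¹) := by rw [e, hx']
          _ = (g : G) * (x * j) * (g : G)⁻¹ := by simp [mul_assoc]
          _ = _ := by rw [hxj]
      have hj' : Commute x' j := by
        have := (commute_conj_iff (g : G) x j).2 hjx.symm
        rwa [conj_eq_of_commute hgj, ← hx'] at this
      suffices h : x' = x ∨ x' = y by
        rcases h with k | k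
        · exact congrArg q (Subtype.ext (hx'.symm.trans k))
        · refine qj ?_
          show (g : G) * x * (g : G)⁻¹ = x * j
          rw [← hx', k, hxj]
      rw [Commute, SemiconjBy, ← map_mul, ← map_mul] at hg
      rcases qeq hg with k | k
      · have k' : x * x' = x' * x := by rw [hx']; exact k
        by_cases e : x' = x
        · exact Or.inl e
        have hx'c : x' ∈ comp z := comp_perp hx ⟨hx'D, e, k'⟩
        have hy'c : x' * j ∈ comp z := S.mem_comp (hy' ▸ conjugates_inv _ hy.1) (mul_mem (comp_le hx'c) hjG)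
        refine S.pair_unique hx hyc hx'c hy'c (Ne.symm hy.2.1) (fun e' => hj1 ?_) hxy ((Commute.refl x').mul_right hj') ?_
        · exact mul_eq_left.1 e'.symm
        · rw [← mul_assoc, sqx', one_mul, hj]
      · have k' : x * x' = x' * x * j := by rw [hx']; exact k
        have e1 : x' * x * x' = y := by
          rw [mul_assoc, k', ← mul_assoc, ← mul_assoc, sqx', one_mul, hxj]
        have hx'G : x' ∈ G0 z := S.stab hx (by rw [inv_eq_of_mul_eq_one_right sqx', e1]; exact hyc)
        have hx'c := S.mem_comp hx'D hx'G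
        rcases S.braid_or_commute hx hx'c with c | c
        · exact absurd (mul_eq_left.1 (k'.symm.trans c.eq)) hj1
        · right
          calc x' = x * (x * x' * x) * x := by simp only [← mul_assoc, sqx, one_mul]; simp [mul_assoc, sqx]
            _ = x * y * x := by rw [c, e1]
            _ = y := by rw [hxy.eq, mul_assoc, sqx, mul_one]
  obtain ⟨N, hNn, hodd, hcomm⟩ := ZStar.exists_odd_normal hiso
  haveI := hNn
  have oddfix : ∀ n ∈ N, ∀ k : ℕ, n ^ 2 ^ k = 1 → n = 1 := by
    intro n hn k hk
    have h1 : orderOf n ∣ 2 ^ k := orderOf_dvd_of_pow_eq_one hk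
    have h2 : orderOf n ∣ Nat.card N := by
      rw [← Subgroup.orderOf_mk n hn]
      exact orderOf_dvd_natCard _
    obtain ⟨i, -, hi⟩ := (Nat.dvd_prime_pow Nat.prime_two).1 h1
    rcases Nat.eq_zero_or_pos i with rfl | hpos
    · exact orderOf_eq_one_iff.1 (by rw [hi, pow_zero])
    · exfalso
      have : (2 : ℕ) ∣ Nat.card N := (dvd_pow_self 2 (by omega)).trans (hi ▸ h2)
      exact Nat.not_even_iff_odd.2 hodd (even_iff_two_dvd.2 this)
  -- elements over `N` fixing the pair
  let T : Subgroup G := ((N.comap q) ⊓ Subgroup.centralizer {xM}).map (CC j).subtype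
  have hT : ∀ n ∈ T, Commute n x ∧ Commute n y := by
    rintro _ ⟨⟨n, hn⟩, ⟨-, hnx⟩, rfl⟩
    have h1 : Commute n x := congrArg Subtype.val (Subgroup.mem_centralizer_singleton_iff.1 hnx)
    refine ⟨h1, ?_⟩
    show Commute n y
    rw [← hxj]
    exact h1.mul_right (Subgroup.mem_centralizer_singleton_iff.1 hn)
  have hcom : ∀ u ∈ both z x y, Commute u j := fun u hu =>
    hj ▸ hu.1.2.2.symm.mul_right hu.2.2.2.symm
  have Ttriv : ∀ n ∈ T, n = 1 ∨ n = j := by
    rw [hj]
    refine S.pair_core hx hy T hT ?_ ?_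
    · intro u hu _ hn
      obtain ⟨n, hn, rfl⟩ := hn
      let uM : ↥(CC j) := ⟨u, Subgroup.mem_centralizer_singleton_iff.2 (hcom u hu).eq⟩
      refine ⟨uM * n * uM⁻¹, ⟨?_, ?_⟩, rfl⟩
      · show q (uM * n * uM⁻¹) ∈ N
        rw [map_mul, map_mul, map_inv]
        exact hNn.conj_mem _ hn.1 _
      · have hu' : uM ∈ Subgroup.centralizer ({xM} : Set ↥(CC j)) :=
          Subgroup.mem_centralizer_singleton_iff.2 (Subtype.ext hu.1.2.2.symm.eq)
        exact mul_mem (mul_mem hu' hn.2) ((Subgroup.centralizer ({xM} : Set ↥(CC j))).inv_mem hu')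
    · rintro _ ⟨n, hn, rfl⟩ k hk
      have h1 : q n = q 1 := by
        rw [map_one]
        refine oddfix _ hn.1 k ?_
        rw [← map_pow, show n ^ 2 ^ k = 1 from Subtype.ext (by simpa using hk), map_one]
      rcases qeq h1 with e | e
      · exact Or.inl e
      · exact Or.inr (e.trans ((one_mul j).trans hj))
  -- nothing over `N` commutes with a common member
  have fpf : ∀ (u : G) (hu : Commute u j), u = x ∨ u ∈ both z x y → ∀ n ∈ N,
      q ⟨u, Subgroup.mem_centralizer_singleton_iff.2 hu.eq⟩ * n * (q ⟨u, Subgroup.mem_centralizer_singleton_iff.2 hu.eq⟩)⁻¹ = n → n = 1 := by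
    intro u hu hu' n hn e
    obtain ⟨m, rfl⟩ := QuotientGroup.mk'_surjective _ n
    have hm : Commute (m : G) j := Subgroup.mem_centralizer_singleton_iff.1 m.2
    have e' : q (m * ⟨u, Subgroup.mem_centralizer_singleton_iff.2 hu.eq⟩ * m⁻¹) =
        q ⟨u, Subgroup.mem_centralizer_singleton_iff.2 hu.eq⟩ := by
      rw [map_mul, map_mul, map_inv]
      exact mul_inv_eq_iff_eq_mul.2 (mul_inv_eq_iff_eq_mul.1 e).symm
    -- odd powers cannot exchange the pair
    have noswap : (m : G) * x * (m : G)⁻¹ ≠ y := by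
      intro k
      have k2 : (m : G) * y * (m : G)⁻¹ = x := by
        rw [← hxj, show (m : G) * (x * j) * (m : G)⁻¹ = (m : G) * x * (m : G)⁻¹ * ((m : G) * j * (m : G)⁻¹) by simp [mul_assoc],
          k, conj_eq_of_commute hm, hj, ← mul_assoc, ← hxy.eq, mul_assoc, sqy, mul_one]
      have hpow : ∀ i : ℕ, (Even i → (m : G) ^ i * x * ((m : G) ^ i)⁻¹ = x) ∧
          (¬ Even i → (m : G) ^ i * x * ((m : G) ^ i)⁻¹ = y) := by
        intro i
        induction i with
        | zero => simp
        | succ i ih =>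
          have ei : (m : G) ^ (i + 1) * x * ((m : G) ^ (i + 1))⁻¹ = (m : G) * ((m : G) ^ i * x * ((m : G) ^ i)⁻¹) * (m : G)⁻¹ := by
            rw [pow_succ', mul_inv_rev]; simp [mul_assoc]
          rw [Nat.even_add_one, ei]
          exact ⟨fun h => by rw [ih.2 h, k2], fun h => by rw [ih.1 (not_not.1 h), k]⟩
      have h1 : (q m) ^ Nat.card N = 1 := by
        have : (⟨q m, hn⟩ : N) ^ Nat.card N = 1 := pow_card_eq_one'
        exact congrArg Subtype.val this
      have h2 := (hpow (Nat.card N)).2 (Nat.not_even_iff_odd.2 hodd)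
      rw [← map_pow] at h1
      rcases qeq (h1.trans (map_one q).symm) with e1 | e1
      · rw [Subgroup.coe_pow, Subgroup.coe_one] at e1
        rw [e1] at h2
        simp at h2
        exact hy.2.1 h2.symm
      · rw [Subgroup.coe_pow, show ((1 : ↥(CC j)) : G) * j = j from one_mul j] at e1
        rw [e1, conj_eq_of_commute hjx] at h2
        exact hy.2.1 h2.symm
    have hmx : Commute (m : G) x := by
      rcases hu' with rfl | hu'
      · rcases qeq e' with k | k
        · exact mul_inv_eq_iff_eq_mul.1 k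
        · exact absurd (k.trans hxj) noswap
      · have huc : u ∈ comp z := comp_perp hx hu'.1
        have hmu : (m : G) * u * (m : G)⁻¹ = u := by
          rcases qeq e' with k | k
          · exact k
          · exfalso
            have hD : u * j ∈ D := by
              rw [← (k : (m : G) * u * (m : G)⁻¹ = u * j)]; exact conjugates_inv _ hu'.1.1
            exact S.triple_ne huc hx hyc (S.mem_comp hD (mul_mem (comp_le huc) hjG)) hu'.1.2.1 hu'.2.2.1
              (Ne.symm hy.2.1) hu'.1.2.2.symm hu'.2.2.2.symm hxy (by rw [hj, mul_assoc])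
        have hmG : (m : G) ∈ G0 z := S.centralizer_le huc
          (Subgroup.mem_centralizer_singleton_iff.2 (mul_inv_eq_iff_eq_mul.1 hmu))
        rcases S.pair_moved hx hy hmG (hj ▸ hm) with k | k
        · exact mul_inv_eq_iff_eq_mul.1 k
        · exact absurd k noswap
    have hmT : (m : G) ∈ T :=
      ⟨m, ⟨hn, Subgroup.mem_centralizer_singleton_iff.2 (Subtype.ext hmx.eq)⟩, rfl⟩
    rcases Ttriv _ hmT with k | k
    · rw [show m = 1 from Subtype.ext k, map_one]
    · exact (qj (b := 1) (by rw [k]; exact (one_mul j).symm)).trans (map_one q)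
  -- the common members invert `N`
  have inv_act : ∀ (u : G) (hu : Commute u j), u = x ∨ u ∈ both z x y → ∀ n ∈ N,
      q ⟨u, Subgroup.mem_centralizer_singleton_iff.2 hu.eq⟩ * n * (q ⟨u, Subgroup.mem_centralizer_singleton_iff.2 hu.eq⟩)⁻¹ = n⁻¹ := by
    intro u hu hu' n hn
    obtain ⟨a, ha⟩ : ∃ a, a = q ⟨u, Subgroup.mem_centralizer_singleton_iff.2 hu.eq⟩ := ⟨_, rfl⟩
    have hfix := fpf u hu hu'
    rw [← ha] at hfix ⊢
    have husq : u * u = 1 := by
      rcases hu' with rfl | h
      exacts [sqx, S.sq h.1.1]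
    have ha2 : a * a = 1 := by
      rw [ha, ← map_mul]
      exact (congrArg q (Subtype.ext husq : _ = (1 : ↥(CC j)))).trans (map_one q)
    let φ : ↥N →* ↥N :=
      { toFun := fun v => ⟨a * (v : _) * a⁻¹, hNn.conj_mem _ v.2 a⟩
        map_one' := Subtype.ext (by simp)
        map_mul' := fun v w => Subtype.ext (by simp [mul_assoc]) }
    have h1 : MonoidHom.FixedPointFree φ := fun v hv => Subtype.ext (hfix _ v.2 (congrArg Subtype.val hv))
    have h2 : Function.Involutive φ := fun v => Subtype.ext (by
      show a * (a * (v : _) * a⁻¹) * a⁻¹ = v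
      rw [show a * (a * (v : _) * a⁻¹) * a⁻¹ = (a * a) * (v : _) * (a * a)⁻¹ by simp [mul_assoc], ha2]
      simp)
    exact congrArg Subtype.val (congrFun (h1.coe_eq_inv_of_involutive h2) ⟨n, hn⟩)
  have hNbot : ∀ n ∈ N, n = 1 := by
    intro n hn
    obtain ⟨l, hlen, hlC, hprod⟩ := S.four_members hx hy
    have key : ∀ l : List G, (∀ u ∈ l, u ∈ both z x y) → ∀ (h : l.prod ∈ CC j),
        q ⟨l.prod, h⟩ * n * (q ⟨l.prod, h⟩)⁻¹ = if Even l.length then n else n⁻¹ := by
      intro l
      induction l with
      | nil =>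
        intro _ h
        rw [show (⟨([] : List G).prod, h⟩ : ↥(CC j)) = 1 from Subtype.ext rfl, map_one]
        simp
      | cons u l ih =>
        intro hl h
        have hu := hl u List.mem_cons_self
        have huj := hcom u hu
        have hlj : l.prod ∈ CC j := list_prod_mem fun v hv =>
          Subgroup.mem_centralizer_singleton_iff.2 (hcom v (hl v (List.mem_cons_of_mem _ hv))).eq
        rw [show (⟨(u :: l).prod, h⟩ : ↥(CC j)) = ⟨u, Subgroup.mem_centralizer_singleton_iff.2 huj.eq⟩ * ⟨l.prod, hlj⟩ from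
          Subtype.ext List.prod_cons, map_mul, mul_inv_rev]
        have ih' := ih (fun v hv => hl v (List.mem_cons_of_mem _ hv)) hlj
        rw [show ∀ a b : ↥(CC j) ⧸ (Subgroup.zpowers j).subgroupOf (CC j), a * b * n * (b⁻¹ * a⁻¹) = a * (b * n * b⁻¹) * a⁻¹ from
          fun a b => by simp [mul_assoc], ih']
        by_cases he : Even l.length
        · rw [if_pos he, List.length_cons, if_neg (by simpa [Nat.even_add_one] using he)]
          exact inv_act u huj (Or.inr hu) n hn
        · rw [if_neg he, List.length_cons, if_pos (by simpa [Nat.even_add_one] using he),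
            inv_act u huj (Or.inr hu) _ (inv_mem hn), inv_inv]
    have hlx : l.prod ∈ CC j := by rw [hprod]; exact xM.2
    have h1 := key l hlC hlx
    rw [if_pos (by rw [hlen]; exact ⟨2, rfl⟩), show (⟨l.prod, hlx⟩ : ↥(CC j)) = xM from Subtype.ext hprod] at h1
    refine oddfix n hn 1 ?_
    rw [pow_one, pow_two]
    exact eq_inv_iff_mul_eq_one.1 (h1.symm.trans (inv_act x hjx.symm (Or.inl rfl) n hn))
  intro g hg
  let gM : ↥(CC j) := ⟨g, hg⟩
  have h1 : q (gM * xM * gM⁻¹) = q xM := by
    have h := hNbot _ (hcomm (q gM))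
    have h' : q xM * q gM = q gM * q xM := by
      have := mul_inv_eq_one.1 h
      exact mul_inv_eq_iff_eq_mul.1 this
    rw [map_mul, map_mul, map_inv, ← h', mul_inv_cancel_right]
  rcases qeq h1 with k | k
  · exact S.stab hx (by rw [show g * x * g⁻¹ = x from k]; exact hx)
  · exact S.stab hx (by rw [show g * x * g⁻¹ = x * j from k, hxj]; exact hyc)

end Setting

end Cfsg.Agent.Fus.U62Rec
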