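import Cfsg.Agent.Lib.Fus.U62Rec.Pair

/-! An involution which is a product of three commuting members not on a line has at most twelve members
that start such a product. -/

set_option autoImplicit false
set_option linter.style.haveILetI false
set_option linter.unusedSectionVars false
set_option linter.deprecated false

namespace Cfsg.Agent.Fus.U62Rec

open Cfsg Cfsg.Agent.Spor.ThreeTrans Cfsg.Agent.Block.FischerTypes

theorem q_tf : TwinFree E4 := by
  rintro a b ⟨ha, hb, h⟩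
  by_contra hne
  obtain ⟨s, hs, k1, k2⟩ := sep ha hb hne
  exact k2 ((h s hs).1 k1.symm).symm

variable {G : Type*} [Group G] [Finite G] {z : G}

local notation "D" => conjugatesOf z

/-- Three commuting members of the component, not on a line. -/
structure Tri (S : Setting z) (a b c : G) : Prop where
  ha : a ∈ comp z
  hb : b ∈ perp D a
  hc : c ∈ perp D a
  bc : b ≠ c
  kbc : Commute b c
  line : S.im a b ≠ S.im a c

namespace Setting

variable (S : Setting z)
include S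

theorem comm3 {a b c u : G} (ha : a ∈ comp z) (hb : b ∈ comp z) (hc : c ∈ comp z) (hu : u ∈ comp z)
    (hab : a ≠ b) (hac : a ≠ c) (hbc : b ≠ c) (kab : Commute a b) (kac : Commute a c) (kbc : Commute b c)
    (h : Commute u (a * b * c)) : Commute u a ∧ Commute u b ∧ Commute u c := by
  have k := (commute_mul_three_iff (a := (⟨a, comp_le ha⟩ : ↥(G0 z))) (b := ⟨b, comp_le hb⟩) (c := ⟨c, comp_le hc⟩)
    (e := ⟨u, comp_le hu⟩) S.cls0_class.1 ha hb hc hu (fun k => hab (congrArg Subtype.val k))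
    (fun k => hac (congrArg Subtype.val k)) (fun k => hbc (congrArg Subtype.val k)) (Subtype.ext kab.eq)
    (Subtype.ext kac.eq) (Subtype.ext kbc.eq)).1 (Subtype.ext h.eq)
  exact ⟨congrArg Subtype.val k.1.eq, congrArg Subtype.val k.2.1.eq, congrArg Subtype.val k.2.2.eq⟩

/-- Three members over one transvection are completed by a fourth to the first. -/
theorem fiber_three {a b c : G} (ha : a ∈ D) (hb : b ∈ perp D a) (hc : c ∈ perp D a) (hbc : b ≠ c)
    (e : S.im a b = S.im a c) : ∃ u v, u ∈ perp D a ∧ v ∈ perp D a ∧ u ≠ v ∧ S.im a u = S.im a b ∧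
      S.im a v = S.im a b ∧ a * b * c = u * v := by
  obtain ⟨p, q, r, s, hnd, hm, hprod⟩ := (S.at ha).line_prod (S.im_mem ha hb)
  rw [conjugatesOf_eq ha, ← S.im_eq ha] at hm
  have hin : ∀ w ∈ [p, q, r, s], w ∈ perp D a ∧ S.im a w = S.im a b := fun w => (hm w).2
  have hcomm : ∀ v ∈ [p, q, r, s], ∀ w ∈ [p, q, r, s], Commute v w := fun v hv w hw =>
    S.comm_of_im ha (hin v hv).1 (hin w hw).1 ((hin v hv).2.trans (hin w hw).2.symm)
  have hbm : b ∈ [p, q, r, s] := (hm b).1 ⟨hb, rfl⟩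
  have hcm : c ∈ [p, q, r, s] := (hm c).1 ⟨hc, e.symm⟩
  classical
  obtain ⟨l, hl⟩ : ∃ l, l = (([p, q, r, s] : List G).erase b).erase c := ⟨_, rfl⟩
  have hperm : ([p, q, r, s] : List G).Perm (b :: c :: l) := by
    refine (List.perm_cons_erase hbm).trans (List.Perm.cons b ?_)
    rw [hl]
    exact List.perm_cons_erase ((List.mem_erase_of_ne (Ne.symm hbc)).2 hcm)
  have hlen : l.length = 2 := by
    have := hperm.length_eq
    simpa using this.symm
  obtain ⟨u, v, rfl⟩ := List.length_eq_two.1 hlen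
  have hnd' : [b, c, u, v].Nodup := hperm.nodup_iff.1 hnd
  simp only [List.nodup_cons, List.mem_cons, List.not_mem_nil, or_false, not_or] at hnd'
  have hu : u ∈ [p, q, r, s] := hperm.mem_iff.2 (by simp)
  have hv : v ∈ [p, q, r, s] := hperm.mem_iff.2 (by simp)
  refine ⟨u, v, (hin u hu).1, (hin v hv).1, hnd'.2.2.1, (hin u hu).2, (hin v hv).2, ?_⟩
  have hp := hperm.prod_eq' (List.pairwise_of_forall_mem_list hcomm)
  simp only [List.prod_cons, List.prod_nil, mul_one] at hp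
  rw [show a = b * (c * (u * v)) by rw [← hp, ← hprod]; simp [mul_assoc]]
  have k : Commute (b * c) (u * v) :=
    ((hcomm b hbm u hu).mul_right (hcomm b hbm v hv)).mul_left ((hcomm c hcm u hu).mul_right (hcomm c hcm v hv))
  have sbc : b * c * (b * c) = 1 := by
    rw [← pow_two, (hcomm b hbm c hcm).mul_pow, pow_two, pow_two, S.sq hb.1, S.sq hc.1, one_mul]
  calc b * (c * (u * v)) * b * c = (b * c) * (u * v) * (b * c) := by simp only [mul_assoc]
    _ = (u * v) * ((b * c) * (b * c)) := by rw [k.eq]; simp only [mul_assoc]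
    _ = u * v := by rw [sbc, mul_one]

/-- Such a triple is no pair. -/
theorem tri_ne_pair {a b c p q : G} (T : Tri S a b c) (hp : p ∈ comp z) (hq : q ∈ comp z) (hpq : p ≠ q)
    (kpq : Commute p q) : a * b * c ≠ p * q := by
  intro e
  have ha := T.ha
  have haD := S.comp_sub ha
  have hbc' : b ∈ comp z := comp_perp ha T.hb
  have hcc : c ∈ comp z := comp_perp ha T.hc
  have kp : Commute p (a * b * c) := e ▸ (Commute.refl p).mul_right kpq
  have kq : Commute q (a * b * c) := e ▸ kpq.symm.mul_right (Commute.refl q)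
  obtain ⟨pa, pb, pc⟩ := S.comm3 ha hbc' hcc hp (Ne.symm T.hb.2.1) (Ne.symm T.hc.2.1) T.bc T.hb.2.2 T.hc.2.2 T.kbc kp
  obtain ⟨qa, qb, qc⟩ := S.comm3 ha hbc' hcc hq (Ne.symm T.hb.2.1) (Ne.symm T.hc.2.1) T.bc T.hb.2.2 T.hc.2.2 T.kbc kq
  have hpa : p ≠ a := fun k => by
    rw [k, mul_assoc] at e
    exact S.pair_ne hbc' hcc hq T.bc T.kbc (mul_left_cancel e)
  have hqa : q ≠ a := fun k => by
    rw [k, (k ▸ kpq : Commute p a).eq, mul_assoc] at e
    exact S.pair_ne hbc' hcc hp T.bc T.kbc (mul_left_cancel e)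
  have hpp : p ∈ perp D a := ⟨S.comp_sub hp, hpa, pa.symm⟩
  have hqp : q ∈ perp D a := ⟨S.comp_sub hq, hqa, qa.symm⟩
  have himg : S.im a b * S.im a c = S.im a p * S.im a q := by
    have := congrArg (S.im a) e
    rwa [S.im_mul haD (mul_mem (mem_CC.2 (Commute.refl a)) (S.mem_perp_CC T.hb)) (S.mem_perp_CC T.hc),
      S.im_mul haD (mem_CC.2 (Commute.refl a)) (S.mem_perp_CC T.hb), S.im_self haD, one_mul,
      S.im_mul haD (S.mem_perp_CC hpp) (S.mem_perp_CC hqp)] at this
  have npq : S.im a p ≠ S.im a q := fun k => T.line (by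
    rw [k, U62Rec.sq (S.im_mem haD hqp)] at himg
    calc S.im a b = S.im a b * (S.im a c * S.im a c) := by rw [U62Rec.sq (S.im_mem haD T.hc), mul_one]
      _ = S.im a b * S.im a c * S.im a c := by rw [mul_assoc]
      _ = _ := by rw [himg, one_mul])
  -- one of the two lies over the point of `b`
  have main : ∀ {p q : G}, p ∈ perp D a → q ∈ perp D a → p ≠ q → Commute p q → p * q = a * b * c →
      S.im a p = S.im a b → S.im a q = S.im a c → False := by
    intro p q hp hq hpq kpq e ep eq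
    have hpc := comp_perp ha hp
    have hqc := comp_perp ha hq
    by_cases k : p = b
    · subst k
      have : a * c = q := by
        have h := congrArg (p * ·) e.symm
        simp only [← mul_assoc, S.sq hp.1, one_mul] at h
        rw [T.hb.2.2.symm.eq, mul_assoc a p p, S.sq hp.1, mul_one] at h
        exact h
      exact S.pair_ne ha hcc hqc (Ne.symm T.hc.2.1) T.hc.2.2 this
    · obtain ⟨u, v, hu, hv, huv, eu, ev, hline⟩ := S.fiber_three haD T.hb hp (Ne.symm k) ep.symm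
      have kc : ∀ w ∈ perp D a, S.im a w = S.im a b → Commute c w := fun w hw ew =>
        (S.im_comm haD T.hc hw).2 (ew ▸ ((S.im_comm haD T.hb T.hc).1 T.kbc).symm)
      have k1 : p * a * b = a * b * p := by
        rw [mul_assoc]
        exact (hp.2.2.symm.mul_right (S.comm_of_im haD hp T.hb ep)).eq
      have hqe : q = u * v * c := by
        rw [← hline, ← k1, mul_assoc p a b, mul_assoc p (a * b) c, ← e, ← mul_assoc, S.sq hp.1, one_mul]
      have kuv : Commute c (u * v) := (kc u hu eu).mul_right (kc v hv ev)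
      have he : u * v = c * q := by
        rw [hqe, ← mul_assoc, kuv.eq, mul_assoc, S.sq T.hc.1, mul_one]
      have hcq : c ≠ q := fun k' => huv (by
        rw [← k', S.sq T.hc.1] at he
        rw [eq_inv_of_mul_eq_one_left he, S.inv hv.1])
      rcases S.pair_unique (comp_perp ha hu) (comp_perp ha hv) hcc hqc huv hcq
        (S.comm_of_im haD hu hv (eu.trans ev.symm)) (S.comm_of_im haD T.hc hq eq.symm) he with k' | k'
      · exact T.line (by rw [k', eu])
      · exact T.line (by rw [k', ev])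
  rcases uniq2 q_class q_tf (S.im_mem haD T.hb) (S.im_mem haD T.hc) (S.im_mem haD hpp) (S.im_mem haD hqp) T.line npq
      ((S.im_comm haD T.hb T.hc).1 T.kbc) ((S.im_comm haD hpp hqp).1 kpq) himg with k | k
  · exact main hpp hqp hpq kpq e.symm k.symm (mul_left_cancel (by rw [← himg, k]))
  · refine main hqp hpp (Ne.symm hpq) kpq.symm (kpq.symm.eq.trans e.symm) k.symm ?_
    rw [k] at himg
    exact (mul_left_cancel (himg.trans ((S.im_comm haD hpp hqp).1 kpq).eq)).symm

theorem tri_swap {a b c : G} (T : Tri S a b c) : Tri S a c b :=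
  ⟨T.ha, T.hc, T.hb, Ne.symm T.bc, T.kbc.symm, Ne.symm T.line⟩

theorem tri_rot {a b c : G} (T : Tri S a b c) : Tri S b c a := by
  have haD := S.comp_sub T.ha
  refine ⟨comp_perp T.ha T.hb, ⟨T.hc.1, Ne.symm T.bc, T.kbc⟩, perp_sym haD T.hb, T.hc.2.1, T.hc.2.2.symm, fun e => ?_⟩
  exact T.line (S.move T.hb.1 (perp_sym haD T.hb) ⟨T.hc.1, Ne.symm T.bc, T.kbc⟩ T.hc.2.1 e).symm

/-- The first members of the triples with a given product. -/
def starts (i : G) : Set G := {u | u ∈ comp z ∧ ∃ y w, Tri S u y w ∧ u * y * w = i}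

/-- The other members of a side line start no such triple. -/
theorem side {a b c u : G} (T : Tri S a b c) (hu : u ∈ perp D a) (he : S.im a u = S.im a b) (hne : u ≠ b) :
    u ∉ S.starts (a * b * c) := by
  rintro ⟨-, y, w, T', e⟩
  have ha := T.ha
  have haD := S.comp_sub ha
  obtain ⟨p, q, hp, hq, hpq, ep, eq, hline⟩ := S.fiber_three haD hu T.hb hne he
  rw [he] at ep eq
  have huc := comp_perp ha hu
  have kc : ∀ v ∈ perp D a, S.im a v = S.im a b → Commute c v := fun v hv ev =>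
    (S.im_comm haD T.hc hv).2 (ev ▸ ((S.im_comm haD T.hb T.hc).1 T.kbc).symm)
  have kpq : Commute p q := S.comm_of_im haD hp hq (ep.trans eq.symm)
  have hpc : p ≠ c := fun k => T.line (by rw [← ep, k])
  have hqc : q ≠ c := fun k => T.line (by rw [← eq, k])
  have hap : a ∈ perp D p := perp_sym haD hp
  have hqp : q ∈ perp D p := ⟨hq.1, Ne.symm hpq, kpq⟩
  have hcp : c ∈ perp D p := ⟨T.hc.1, Ne.symm hpc, (kc p hp ep).symm⟩
  have hline' : S.im p q ≠ S.im p c := fun k => by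
    have k1 : S.im p q = S.im p a := S.move haD hp hq (Ne.symm hpq) (eq.trans ep.symm)
    have k2 : S.im a c = S.im a p := S.move hp.1 hap hcp T.hc.2.1 (k.symm.trans k1)
    exact T.line (by rw [k2, ep])
  have hyc : y ∈ comp z := comp_perp T'.ha T'.hb
  have hwc : w ∈ comp z := comp_perp T'.ha T'.hc
  refine S.tri_ne_pair ⟨comp_perp ha hp, hqp, hcp, hqc, (kc q hq eq).symm, hline'⟩ hyc hwc T'.bc T'.kbc ?_
  calc p * q * c = a * u * b * c := by rw [hline]
    _ = u * (a * b * c) := by rw [hu.2.2.eq]; simp only [mul_assoc]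
    _ = y * w := by rw [← e, ← mul_assoc, ← mul_assoc, S.sq hu.1, one_mul]

theorem starts_card {i a b c : G} (T : Tri S a b c) (hi : a * b * c = i) : (S.starts i).ncard ≤ 12 := by
  have ha := T.ha
  have haD := S.comp_sub ha
  have hbc' : b ∈ comp z := comp_perp ha T.hb
  have hcc : c ∈ comp z := comp_perp ha T.hc
  obtain ⟨W, hW⟩ : ∃ W, W = insert a {u | u ∈ perp D a ∧
      (fun r => Commute r (S.im a b) ∧ Commute r (S.im a c)) (S.im a u)} := ⟨_, rfl⟩
  have hWc : W.ncard = 21 := by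
    rw [hW, Set.ncard_insert_of_notMem (fun h => h.1.2.1 rfl) (Set.toFinite _),
      S.im_card haD (fun r => Commute r (S.im a b) ∧ Commute r (S.im a c)),
      line_card (S.im_mem haD T.hb) (S.im_mem haD T.hc) T.line ((S.im_comm haD T.hb T.hc).1 T.kbc)]
  have inW : ∀ {u : G}, u ∈ D → Commute u a → Commute u b → Commute u c → u ∈ W := by
    intro u hu ka kb kc
    rw [hW]
    by_cases k : u = a
    · exact Or.inl k
    · have hup : u ∈ perp D a := ⟨hu, k, ka.symm⟩
      exact Or.inr ⟨hup, (S.im_comm haD hup T.hb).1 kb, (S.im_comm haD hup T.hc).1 kc⟩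
  have T2 := S.tri_swap T
  have T3 := S.tri_rot T
  obtain ⟨F1, hF1⟩ : ∃ F, F = {u | u ∈ perp D a ∧ S.im a u = S.im a b} \ {b} := ⟨_, rfl⟩
  obtain ⟨F2, hF2⟩ : ∃ F, F = {u | u ∈ perp D a ∧ S.im a u = S.im a c} \ {c} := ⟨_, rfl⟩
  obtain ⟨F3, hF3⟩ : ∃ F, F = {u | u ∈ perp D b ∧ S.im b u = S.im b c} \ {c} := ⟨_, rfl⟩
  have fib : ∀ {x v : G}, x ∈ D → v ∈ perp D x → ({u | u ∈ perp D x ∧ S.im x u = S.im x v} \ {v}).ncard = 3 := by
    intro x v hx hv
    rw [Set.ncard_sdiff (by simpa using hv) (Set.toFinite _), Set.ncard_singleton,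
      S.im_card hx (fun r => r = S.im x v),
      show {e | e ∈ E4 ∧ e = S.im x v} = {S.im x v} from Set.ext fun e =>
        ⟨fun h => h.2, fun h => ⟨h ▸ S.im_mem hx hv, h⟩⟩, Set.ncard_singleton]
  have hF1W : F1 ⊆ W := by
    rw [hF1]
    rintro u ⟨⟨hu, he⟩, -⟩
    exact inW hu.1 hu.2.2.symm (S.comm_of_im haD hu T.hb he)
      ((S.im_comm haD hu T.hc).2 (he ▸ (S.im_comm haD T.hb T.hc).1 T.kbc))
  have hF2W : F2 ⊆ W := by
    rw [hF2]
    rintro u ⟨⟨hu, he⟩, -⟩
    exact inW hu.1 hu.2.2.symm ((S.im_comm haD hu T.hb).2 (he ▸ ((S.im_comm haD T.hb T.hc).1 T.kbc).symm))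
      (S.comm_of_im haD hu T.hc he)
  have hF3W : F3 ⊆ W := by
    rw [hF3]
    rintro u ⟨⟨hu, he⟩, -⟩
    refine inW hu.1 ((S.im_comm T.hb.1 hu (perp_sym haD T.hb)).2 ?_) hu.2.2.symm
      (S.comm_of_im T.hb.1 hu ⟨T.hc.1, Ne.symm T.bc, T.kbc⟩ he)
    rw [he]
    exact (S.im_comm T.hb.1 ⟨T.hc.1, Ne.symm T.bc, T.kbc⟩ (perp_sym haD T.hb)).1 T.hc.2.2.symm
  have d12 : Disjoint F1 F2 := by
    rw [Set.disjoint_left, hF1, hF2]
    rintro u ⟨⟨-, e1⟩, -⟩ ⟨⟨-, e2⟩, -⟩
    exact T.line (e1.symm.trans e2)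
  have d3 : Disjoint (F1 ∪ F2) F3 := by
    rw [Set.disjoint_left, hF1, hF2, hF3]
    rintro u (⟨⟨h1, e1⟩, n1⟩ | ⟨⟨h1, e1⟩, n1⟩) ⟨⟨h3, e3⟩, n3⟩
    · exact T3.line (by rw [← e3]; exact S.move haD T.hb h1 h3.2.1 e1)
    · have k1 := S.move haD T.hc h1 (fun k => n3 k) e1
      have k2 := S.move T.hb.1 ⟨T.hc.1, Ne.symm T.bc, T.kbc⟩ h3 (fun k => n3 k) e3
      exact (S.tri_rot T3).line (k1.symm.trans k2)
  have hsub : S.starts i ⊆ W \ ((F1 ∪ F2) ∪ F3) := by
    rintro u ⟨huc, y, w, T', e⟩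
    have ku : Commute u i := by
      rw [← e]
      exact ((Commute.refl u).mul_right T'.hb.2.2).mul_right T'.hc.2.2
    rw [← hi] at ku
    obtain ⟨ka, kb, kc⟩ := S.comm3 ha hbc' hcc huc (Ne.symm T.hb.2.1) (Ne.symm T.hc.2.1) T.bc T.hb.2.2 T.hc.2.2
      T.kbc ku
    refine ⟨inW (S.comp_sub huc) ka kb kc, ?_⟩
    have hst : u ∈ S.starts (a * b * c) := hi.symm ▸ ⟨huc, y, w, T', e⟩
    rw [hF1, hF2, hF3]
    rintro ((⟨⟨h1, e1⟩, n1⟩ | ⟨⟨h1, e1⟩, n1⟩) | ⟨⟨h1, e1⟩, n1⟩)
    · exact S.side T h1 e1 n1 hst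
    · refine S.side T2 h1 e1 n1 ?_
      rwa [mul_assoc a c b, T.kbc.symm.eq, ← mul_assoc]
    · refine S.side T3 h1 e1 n1 ?_
      rwa [show b * c * a = a * b * c by rw [mul_assoc a b c]; exact (T.hb.2.2.mul_right T.hc.2.2).symm.eq]
  refine (Set.ncard_le_ncard hsub (Set.toFinite _)).trans ?_
  rw [Set.ncard_sdiff (Set.union_subset (Set.union_subset hF1W hF2W) hF3W) (Set.toFinite _),
    Set.ncard_union_eq d3 (Set.toFinite _) (Set.toFinite _), Set.ncard_union_eq d12 (Set.toFinite _) (Set.toFinite _),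
    hWc, hF1, hF2, hF3, fib haD T.hb, fib haD T.hc, fib T.hb.1 ⟨T.hc.1, Ne.symm T.bc, T.kbc⟩]

/-- At most twenty-four ordered triples have a given product. -/
theorem tri_card (i : G) :
    {pr : G × G | ∃ w, Tri S pr.1 pr.2 w ∧ pr.1 * pr.2 * w = i}.ncard ≤ 24 := by
  classical
  haveI : Fintype G := Fintype.ofFinite G
  by_cases h : ∃ pr : G × G, ∃ w, Tri S pr.1 pr.2 w ∧ pr.1 * pr.2 * w = i
  swap
  · rw [show {pr : G × G | ∃ w, Tri S pr.1 pr.2 w ∧ pr.1 * pr.2 * w = i} = ∅ from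
      Set.eq_empty_iff_forall_notMem.2 fun pr hp => h ⟨pr, hp⟩, Set.ncard_empty]
    norm_num
  obtain ⟨⟨a, b⟩, c, T, e⟩ := h
  rw [Set.ncard_eq_toFinset_card']
  refine (Finset.card_le_mul_card_image (f := Prod.fst) _ 2 fun x hx => ?_).trans ?_
  · obtain ⟨⟨x', y₀⟩, hxy, rfl⟩ := Finset.mem_image.1 hx
    obtain ⟨w₀, T₀, e₀⟩ := Set.mem_toFinset.1 hxy
    refine (Finset.card_le_card (t := {(x', y₀), (x', w₀)}) fun pr hpr => ?_).trans Finset.card_le_two
    obtain ⟨hp, hp1⟩ := Finset.mem_filter.1 hpr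
    obtain ⟨w, T', e'⟩ := Set.mem_toFinset.1 hp
    rcases pr with ⟨x, y⟩
    obtain rfl : x = x' := hp1
    simp only at T' e'
    rw [← e₀, mul_assoc, mul_assoc] at e'
    rcases S.pair_unique (comp_perp T₀.ha T₀.hb) (comp_perp T₀.ha T₀.hc) (comp_perp T'.ha T'.hb)
      (comp_perp T'.ha T'.hc) T₀.bc T'.bc T₀.kbc T'.kbc (mul_left_cancel e').symm with k | k <;> simp [k]
  · have hsub : ({pr : G × G | ∃ w, Tri S pr.1 pr.2 w ∧ pr.1 * pr.2 * w = i}.toFinset.image Prod.fst) ⊆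
        (S.starts i).toFinset := by
      intro x hx
      obtain ⟨⟨x', y⟩, hxy, rfl⟩ := Finset.mem_image.1 hx
      obtain ⟨w, T', e'⟩ := Set.mem_toFinset.1 hxy
      exact Set.mem_toFinset.2 ⟨T'.ha, y, w, T', e'⟩
    have h12 := (Finset.card_le_card hsub).trans ((Set.ncard_eq_toFinset_card' _).symm.le.trans (S.starts_card T e))
    omega

end Setting

end Cfsg.Agent.Fus.U62Rec
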