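import Cfsg.Agent.Lib.Fus.U62Rec.PairCent
import Cfsg.Agent.Lib.Fus.U62Rec.Triple

/-! The component is the whole class. -/

set_option autoImplicit false
set_option maxHeartbeats 1000000
set_option linter.style.haveILetI false
set_option linter.unusedSectionVars false
set_option linter.deprecated false

namespace Cfsg.Agent.Fus.U62Rec

open Cfsg Cfsg.Agent.Spor.ThreeTrans

variable {G : Type*} [Group G] [Finite G] {z : G}

local notation "D" => conjugatesOf z

namespace Setting

variable (S : Setting z)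
include S

/-- An involution of the group of the component commutes with a member. -/
theorem exists_fixed {g : G} (hg : g ∈ G0 z) (hg2 : g * g = 1) : ∃ e ∈ comp z, Commute g e := by
  classical
  haveI : Fact (Nat.Prime 2) := ⟨Nat.prime_two⟩
  haveI : Fintype ↥(comp z) := Fintype.ofFinite _
  have gi : g⁻¹ = g := inv_eq_of_mul_eq_one_right hg2
  have hh : ∀ e : G, g * (g * e * g⁻¹) * g⁻¹ = e := fun e => by
    rw [gi]; simp only [← mul_assoc, hg2, one_mul]; rw [mul_assoc, hg2, mul_one]
  let σ : Equiv.Perm ↥(comp z) :=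
    { toFun := fun e => ⟨g * (e : G) * g⁻¹, S.comp_conj hg e.2⟩
      invFun := fun e => ⟨g * (e : G) * g⁻¹, S.comp_conj hg e.2⟩
      left_inv := fun e => Subtype.ext (hh e)
      right_inv := fun e => Subtype.ext (hh e) }
  have hσ : σ ^ 2 ^ 1 = 1 := by
    rw [pow_one, pow_two]
    exact Equiv.ext fun e => σ.left_inv e
  obtain ⟨e, he⟩ := Equiv.Perm.exists_fixed_point_of_prime (p := 2) (n := 1)
    (by rw [← Nat.card_eq_fintype_card, Nat.card_coe_set_eq, S.comp_card]; decide) hσ
  exact ⟨e, e.2, mul_inv_eq_iff_eq_mul.1 (congrArg Subtype.val he)⟩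

/-- A member commuting with the product of a pair of the component lies in it. -/
theorem split_member {x y t : G} (hx : x ∈ comp z) (hy : y ∈ perp D x) (ht : t ∈ D)
    (htj : Commute t (x * y)) : t ∈ comp z :=
  S.mem_comp ht (S.pair_cent hx hy (Subgroup.mem_centralizer_singleton_iff.2 htj.eq))

theorem whole : ∀ t ∈ D, t ∈ comp z := by
  classical
  haveI : Fintype G := Fintype.ofFinite G
  intro t ht
  by_contra hout
  obtain ⟨P, hP⟩ : ∃ P, P = {pr : G × G | pr.1 ∈ comp z ∧ pr.2 ∈ perp D pr.1} := ⟨_, rfl⟩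
  obtain ⟨I, hI⟩ : ∃ I, I = (fun pr : G × G => t * pr.1 * pr.2) ''
    {pr : G × G | pr.1 ∈ perp D t ∧ pr.2 ∈ perp D t ∧ pr.1 ≠ pr.2 ∧ Commute pr.1 pr.2} := ⟨_, rfl⟩
  have key : ∀ pr ∈ P, ∃ i ∈ I, ∃ w, Tri S pr.1 pr.2 w ∧ pr.1 * pr.2 * w = i := by
    rintro ⟨x, y⟩ hpr
    rw [hP] at hpr
    obtain ⟨hx, hy⟩ : x ∈ comp z ∧ y ∈ perp D x := hpr
    have hyc := comp_perp hx hy
    have hxy : Commute x y := hy.2.2
    obtain ⟨j, hj⟩ : ∃ j, j = x * y := ⟨_, rfl⟩
    have hjG : j ∈ G0 z := hj ▸ mul_mem (comp_le hx) (comp_le hyc)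
    have sj : j * j = 1 := by rw [← pow_two, hj, hxy.mul_pow, pow_two, pow_two, S.sq (S.comp_sub hx), S.sq hy.1, one_mul]
    have st : t * t = 1 := S.sq ht
    obtain ⟨r, hr⟩ : ∃ r, r = j * t := ⟨_, rfl⟩
    have hconjj : ∀ n : ℕ, r ^ n * j * (r ^ n)⁻¹ = r ^ (2 * n) * j := by
      intro n
      induction n with
      | zero => simp
      | succ n ih =>
        calc r ^ (n + 1) * j * (r ^ (n + 1))⁻¹ = r * (r ^ n * j * (r ^ n)⁻¹) * r⁻¹ := by
              rw [pow_succ' r n, mul_inv_rev]; simp only [mul_assoc]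
          _ = r * r ^ (2 * n) * (j * r⁻¹) := by rw [ih]; simp only [mul_assoc]
          _ = r * r ^ (2 * n) * (r * j) := by
              congr 1
              rw [hr, mul_inv_rev, inv_eq_of_mul_eq_one_right st, inv_eq_of_mul_eq_one_right sj, mul_assoc]
          _ = r ^ (2 * (n + 1)) * j := by
              rw [show 2 * (n + 1) = 1 + 2 * n + 1 by ring, pow_succ, pow_add, pow_one]; simp only [mul_assoc]
    have htr : r * j = j * r⁻¹ := by
      rw [hr, mul_inv_rev, inv_eq_of_mul_eq_one_right st, inv_eq_of_mul_eq_one_right sj, mul_assoc]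
    have htj : t = j * r := by rw [hr, ← mul_assoc, sj, one_mul]
    have hpow : ∀ n : ℕ, r ^ n * j = j * (r ^ n)⁻¹ := by
      intro n
      induction n with
      | zero => simp
      | succ n ih => rw [pow_succ, mul_assoc, htr, ← mul_assoc, ih, mul_assoc, ← mul_inv_rev, ← pow_succ', ← pow_succ]
    -- the order of the product is even
    rcases Nat.even_or_odd' (orderOf r) with ⟨k, hk | hk⟩
    swap
    · exfalso
      have h1 : r ^ (2 * k + 1) = 1 := hk ▸ pow_orderOf_eq_one r
      have : r ^ k * j * (r ^ k)⁻¹ = t := by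
        rw [hconjj, htj, hpow]
        congr 1
        rw [pow_succ] at h1
        exact inv_eq_of_mul_eq_one_right h1
      have hjD : j ∈ D := by
        have := conjugates_inv (r ^ k)⁻¹ (this ▸ ht)
        simpa [mul_assoc] using this
      exact S.pair_ne hx hyc (S.mem_comp hjD hjG) (Ne.symm hy.2.1) hxy hj.symm
    obtain ⟨i, hi⟩ : ∃ i, i = r ^ k := ⟨_, rfl⟩
    have si : i * i = 1 := by rw [hi, ← pow_add, ← two_mul, ← hk, pow_orderOf_eq_one]
    have iinv : i⁻¹ = i := inv_eq_of_mul_eq_one_right si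
    have hij : Commute i j := by
      show i * j = j * i
      rw [hi, hpow, ← hi, iinv]
    have hit : Commute i t := by
      rw [htj]
      exact hij.mul_right (hi ▸ (Commute.refl r).pow_left k)
    have hiG : i ∈ G0 z := by
      have := S.pair_cent hx hy
      rw [← hj] at this
      exact this (Subgroup.mem_centralizer_singleton_iff.2 hij.eq)
    have hi1 : i ≠ 1 := by
      intro e
      have hdvd : orderOf r ∣ k := orderOf_dvd_of_pow_eq_one (hi ▸ e)
      rw [hk] at hdvd
      have := orderOf_pos r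
      have := Nat.le_of_dvd (by omega) hdvd
      omega
    rcases Nat.even_or_odd' k with ⟨n, rfl | rfl⟩
    · exfalso
      -- `t` times `i` is a conjugate of `t`
      have e : (r ^ n)⁻¹ * t * r ^ n = t * i := by
        have h1 : (r ^ n)⁻¹ * j = j * r ^ n := by
          rw [inv_mul_eq_iff_eq_mul, ← mul_assoc, hpow, mul_assoc, inv_mul_cancel, mul_one]
        rw [hi, htj, ← mul_assoc, h1, two_mul, pow_add, mul_assoc (j * r ^ n) r, mul_assoc j, mul_assoc j,
          ← pow_succ', ← pow_add, ← pow_add, ← pow_succ']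
        congr 2
      have htiD : t * i ∈ D := by
        rw [← e]
        have := conjugates_inv (r ^ n)⁻¹ ht
        rwa [inv_inv] at this
      have htip : t * i ∈ perp D t := by
        refine ⟨htiD, fun e' => hi1 (mul_eq_left.1 e'), ?_⟩
        exact (Commute.refl t).mul_right hit.symm
      obtain ⟨g, hg⟩ := _root_.isConj_iff.1 (show IsConj z t from ht)
      have e1 : g⁻¹ * (t * i) * g ∈ perp D z := by
        have := perp_map (z := z) g⁻¹ htip
        rw [inv_inv, show g⁻¹ * t * g = z by rw [← hg]; simp [mul_assoc]] at this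
        exact this
      obtain ⟨a, ha⟩ : ∃ a, a = g⁻¹ * (t * i) * g := ⟨_, rfl⟩
      rw [← ha] at e1
      have hda : g * (z * a) * g⁻¹ = i := by
        rw [ha, show g * (z * (g⁻¹ * (t * i) * g)) * g⁻¹ = g * z * g⁻¹ * (t * i) by simp [mul_assoc], hg, ← mul_assoc, st, one_mul]
      obtain ⟨b, hbc, hib⟩ := S.exists_fixed hiG si
      have hbi : Commute b i := hib.symm
      have hb' : g⁻¹ * b * g ∈ G0 z := S.pair_cent z_comp e1 (Subgroup.mem_centralizer_singleton_iff.2 (by
        have h := (commute_conj_iff g⁻¹ b i).2 hbi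
        rw [inv_inv, show g⁻¹ * i * g = z * a by rw [← hda]; simp [mul_assoc]] at h
        exact h.eq))
      have hgG : g⁻¹ ∈ G0 z := S.stab hbc (by
        rw [inv_inv]
        refine S.mem_comp ?_ hb'
        have := conjugates_inv g⁻¹ (S.comp_sub hbc)
        rwa [inv_inv] at this)
      refine hout (S.mem_comp ht ?_)
      rw [← hg]
      exact mul_mem (mul_mem (inv_mem_iff.1 hgG) (comp_le z_comp)) hgG
    · have e1 : (r ^ n)⁻¹ * t * r ^ n = j * i := by
        have h1 : (r ^ n)⁻¹ * j = j * r ^ n := by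
          rw [inv_mul_eq_iff_eq_mul, ← mul_assoc, hpow, mul_assoc, inv_mul_cancel, mul_one]
        rw [hi, htj, ← mul_assoc, h1, mul_assoc (j * r ^ n) r, mul_assoc j, ← pow_succ', ← pow_add]
        congr 2
        omega
      have e2 : (r ^ (n + 1))⁻¹ * j * r ^ (n + 1) = t * i := by
        have h1 : (r ^ (n + 1))⁻¹ * j = j * r ^ (n + 1) := by
          rw [inv_mul_eq_iff_eq_mul, ← mul_assoc, hpow, mul_assoc, inv_mul_cancel, mul_one]
        rw [hi, htj, h1, mul_assoc, mul_assoc, ← pow_succ', ← pow_add]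
        congr 2
        omega
      have hjiD : j * i ∈ D := by
        rw [← e1]
        have := conjugates_inv (r ^ n)⁻¹ ht
        rwa [inv_inv] at this
      have hz : j * i ∈ comp z := S.mem_comp hjiD (mul_mem hjG hiG)
      have hzj : Commute (j * i) (x * y) := by rw [← hj]; exact (Commute.refl j).mul_left hij
      obtain ⟨hzx, hzy⟩ := S.pair_fixed hx hy hz hzj
      have hzi : x * y * (j * i) = i := by rw [← hj, ← mul_assoc, sj, one_mul]
      have notmem : i ∉ comp z := fun hic => hout (comp_perp hic ⟨ht, fun e => hout (e ▸ hic), hit⟩)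
      have hzx' : j * i ≠ x := fun e => notmem (by
        rw [← hzi, e, mul_assoc, ← hxy.eq, ← mul_assoc, S.sq (S.comp_sub hx), one_mul]
        exact hyc)
      have hzy' : j * i ≠ y := fun e => notmem (by
        rw [← hzi, e, mul_assoc, S.sq hy.1, mul_one]
        exact hx)
      have hxz : j * i ∈ perp D x := ⟨S.comp_sub hz, hzx', hzx.symm⟩
      have nopair : ∀ u v : G, u ∈ perp D x → v ∈ perp D x → u ≠ v → Commute u v → i ≠ u * v := by
        intro u v hu hv huv kuv e
        exact hout (S.split_member (comp_perp hx hu) ⟨hv.1, Ne.symm huv, kuv⟩ ht (e ▸ hit.symm))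
      have hline : S.im x y ≠ S.im x (j * i) := fun e => by
        obtain ⟨u, v, hu, hv, huv, eu, ev, hprod⟩ := S.fiber_three (S.comp_sub hx) hy hxz (Ne.symm hzy') e
        exact nopair u v hu hv huv (S.comm_of_im (S.comp_sub hx) hu hv (eu.trans ev.symm)) (by rw [← hprod, hzi])
      refine ⟨i, ?_, j * i, ⟨hx, hy, hxz, Ne.symm hzy', hzy.symm, hline⟩, hzi⟩
      rw [hI]
      obtain ⟨g, hg⟩ : ∃ g, g = (r ^ (n + 1))⁻¹ := ⟨_, rfl⟩
      have hgj : g * j * g⁻¹ = t * i := by rw [hg, inv_inv, e2]
      have hp : g * x * g⁻¹ ∈ D := conjugates_inv g (S.comp_sub hx)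
      have hq : g * y * g⁻¹ ∈ D := conjugates_inv g hy.1
      have htij : Commute (g⁻¹ * t * g) (x * y) := by
        rw [← hj]
        refine (commute_conj_iff g _ _).1 ?_
        rw [hgj, show g * (g⁻¹ * t * g) * g⁻¹ = t by simp [mul_assoc]]
        exact (Commute.refl t).mul_right hit.symm
      have ht' : g⁻¹ * t * g ∈ comp z := S.split_member hx hy (by simpa using conjugates_inv g⁻¹ ht) htij
      obtain ⟨hx', hy'⟩ := S.pair_fixed hx hy ht' htij
      have htx : Commute t (g * x * g⁻¹) := by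
        have := (commute_conj_iff g _ _).2 hx'
        simpa [mul_assoc] using this
      have hty : Commute t (g * y * g⁻¹) := by
        have := (commute_conj_iff g _ _).2 hy'
        simpa [mul_assoc] using this
      have hprod : t * (g * x * g⁻¹) * (g * y * g⁻¹) = i := by
        rw [mul_assoc, show g * x * g⁻¹ * (g * y * g⁻¹) = g * j * g⁻¹ by rw [hj]; simp [mul_assoc], hgj,
          ← mul_assoc, st, one_mul]
      refine ⟨(g * x * g⁻¹, g * y * g⁻¹), ⟨⟨hp, fun e => ?_, htx⟩, ⟨hq, fun e => ?_, hty⟩,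
        fun e => hy.2.1 (mul_left_cancel (mul_right_cancel e)).symm,
        (commute_conj_iff g _ _).2 hxy⟩, hprod⟩
      · simp only at e
        rw [e, st, one_mul] at hprod
        exact notmem (S.mem_comp (hprod ▸ hq) hiG)
      · simp only at e
        rw [e, mul_assoc, ← (show Commute t (g * x * g⁻¹) from htx).eq, ← mul_assoc, st, one_mul] at hprod
        exact notmem (S.mem_comp (hprod ▸ hp) hiG)
  -- counting
  choose! ι hιI w hw hwe using key
  have hPcard : P.ncard = 693 * 180 := by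
    rw [Set.ncard_eq_toFinset_card']
    have : P.toFinset = (comp z).toFinset.biUnion fun x => (perp D x).toFinset.image fun y => (x, y) := by
      ext ⟨x, y⟩
      simp [hP]
    rw [this, Finset.card_biUnion, Finset.sum_const_nat (m := 180), ← Set.ncard_eq_toFinset_card', S.comp_card]
    · intro x hx
      rw [Finset.card_image_of_injective _ (fun a b e => congrArg Prod.snd e), ← Set.ncard_eq_toFinset_card',
        S.perp_card (S.comp_sub (Set.mem_toFinset.1 hx))]
    · intro x _ x' _ hne
      simp only [Function.onFun, Finset.disjoint_left, Finset.mem_image]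
      rintro _ ⟨y, -, rfl⟩ ⟨y', -, e⟩
      exact hne (congrArg Prod.fst e).symm
  obtain ⟨Q, hQ⟩ : ∃ Q, Q = {pr : G × G | pr.1 ∈ perp D t ∧ pr.2 ∈ perp D t ∧ pr.1 ≠ pr.2 ∧ Commute pr.1 pr.2} :=
    ⟨_, rfl⟩
  have hQcard : Q.ncard ≤ 180 * 51 := by
    rw [hQ, Set.ncard_eq_toFinset_card']
    have : {pr : G × G | pr.1 ∈ perp D t ∧ pr.2 ∈ perp D t ∧ pr.1 ≠ pr.2 ∧ Commute pr.1 pr.2}.toFinset =
        (perp D t).toFinset.biUnion fun p =>
          (({q | q ∈ perp D t ∧ Commute q p}).toFinset.erase p).image fun q => (p, q) := by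
      ext ⟨p, q⟩
      simp only [Set.mem_toFinset, Set.mem_setOf_eq, Finset.mem_biUnion, Finset.mem_image, Finset.mem_erase, Prod.mk.injEq]
      constructor
      · rintro ⟨h1, h2, h3, h4⟩
        exact ⟨p, h1, q, ⟨Ne.symm h3, h2, h4.symm⟩, rfl, rfl⟩
      · rintro ⟨p', h1, q', ⟨h3, h2, h4⟩, rfl, rfl⟩
        exact ⟨h1, h2, Ne.symm h3, h4.symm⟩
    rw [this]
    refine Finset.card_biUnion_le.trans ?_
    rw [Finset.sum_const_nat (m := 51), ← Set.ncard_eq_toFinset_card', S.perp_card ht]
    intro p hp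
    rw [Set.mem_toFinset] at hp
    rw [Finset.card_image_of_injective _ (fun a b e => congrArg Prod.snd e),
      Finset.card_erase_of_mem (by rw [Set.mem_toFinset]; exact ⟨hp, Commute.refl p⟩), ← Set.ncard_eq_toFinset_card',
      S.commuting_card ht hp]
  have hIcard : 2 * I.ncard ≤ 180 * 51 := by
    refine le_trans ?_ hQcard
    rw [hI, ← hQ, Set.ncard_eq_toFinset_card', Set.ncard_eq_toFinset_card', Set.toFinset_image]
    refine Finset.mul_card_image_le_card _ 2 fun v hv => ?_
    obtain ⟨⟨p, q⟩, hpq, rfl⟩ := Finset.mem_image.1 hv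
    rw [Set.mem_toFinset, hQ] at hpq
    obtain ⟨h1, h2, h3, h4⟩ : p ∈ perp D t ∧ q ∈ perp D t ∧ p ≠ q ∧ Commute p q := hpq
    refine le_trans ?_ (Finset.card_le_card (s := {(p, q), (q, p)}) fun pr hpr => ?_)
    · rw [Finset.card_pair (fun e => h3 (congrArg Prod.fst e))]
    · simp only [Finset.mem_insert, Finset.mem_singleton] at hpr
      rcases hpr with rfl | rfl
      · simp [hQ, h1, h2, h3, h4]
      · simp [hQ, h1, h2, Ne.symm h3, h4.symm, mul_assoc, h4.eq]
  have hle : P.ncard ≤ 24 * I.ncard := by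
    rw [Set.ncard_eq_toFinset_card', Set.ncard_eq_toFinset_card']
    refine Finset.card_le_mul_card_image_of_maps_to (f := ι)
      (fun pr hpr => Set.mem_toFinset.2 (hιI pr (Set.mem_toFinset.1 hpr))) 24 fun i _ => ?_
    refine le_trans ?_ (S.tri_card i)
    rw [← Set.ncard_coe_finset]
    refine Set.ncard_le_ncard (fun pr hpr => ?_) (Set.toFinite _)
    simp only [Finset.coe_filter, Set.mem_toFinset, Set.mem_setOf_eq] at hpr
    exact ⟨w pr, hw pr hpr.1, (hwe pr hpr.1).trans hpr.2⟩
  omega

theorem top : G0 z = ⊤ := by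
  rw [eq_top_iff]
  intro g _
  exact S.stab z_comp (S.whole _ (_root_.isConj_iff.2 ⟨g, rfl⟩))

end Setting

end Cfsg.Agent.Fus.U62Rec
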